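import Cfsg.Agent.Omega.EH3.ESix.Bound
import Mathlib.GroupTheory.Perm.Cycle.Type

/-!
# EH3, shape (iii), `w = 6`: the primes 73, and 11, 31 in type (B) (helper415; bb OMEGA #16215 (2))

`g ∈ H` commuting with `ζ`, of prime order `p`.
* `fix_card` : `|C_V(g)| = 4 ^ k`, `4 ^ 6 ≡ 4 ^ k` mod `p`;
* `no73` : `p ≠ 73`;
* `no11`, `no31` : type (B), `p ≠ 11, 31`.
-/

set_option autoImplicit false

namespace Cfsg.Agent.Omega.EH3.ESix.Prime

open Cfsg.Agent.Omega.EH3 Cfsg.Agent.Omega.EH3.ESix.Base Cfsg.Agent.Omega.EH3.ESix.Bound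

variable {H V : Type*} [Group H] [AddCommGroup V] [Module (ZMod 2) V]
  {ρ : H →* (V ≃ₗ[ZMod 2] V)} {b : LinearMap.BilinForm (ZMod 2) V} {q : V → ZMod 2}
  {a : V} {D : Submodule (ZMod 2) V} {X : Subgroup H} {w : ℕ} {ζ : V →ₗ[ZMod 2] V}

theorem card_fix_mod {α : Type*} [Finite α] (f : α → α) (p : ℕ) [hp : Fact p.Prime] (hf : ∀ x, f^[p] x = x) :
    Nat.card α ≡ Nat.card {x : α // f x = x} [MOD p] := by
  classical
  have := Fintype.ofFinite α
  let F : Function.End α := f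
  have h2 : ∀ (n : ℕ) (x : α), (F ^ n) x = f^[n] x := by
    intro n
    induction n with
    | zero => intro x; rfl
    | succ n ih =>
      intro x
      rw [pow_succ]
      show (F ^ n) (f x) = _
      rw [ih (f x), Function.iterate_succ_apply]
  have h1 : F ^ p ^ 1 = 1 := by
    rw [pow_one]
    funext x
    rw [h2 p, hf]
    rfl
  have h3 := Equiv.Perm.card_fixedPoints_modEq (f := F) (p := p) (n := 1) h1
  rw [Nat.card_eq_fintype_card, Nat.card_eq_fintype_card]
  exact h3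

/-- a `ζ`-invariant subspace has order `4 ^ k` -/
theorem card_four [Finite V] (Z : Zt ρ b ζ) (W : Submodule (ZMod 2) V) (hW : ∀ v ∈ W, ζ v ∈ W) :
    ∃ k, Nat.card W = 4 ^ k := by
  have : Fact (Nat.Prime 3) := ⟨Nat.prime_three⟩
  have h1 := Module.natCard_eq_pow_finrank (K := ZMod 2) (V := W)
  rw [Nat.card_zmod] at h1
  set m := Module.finrank (ZMod 2) W with hm
  have h2 := card_fix_mod (α := W) (fun v => ⟨ζ v, hW v v.2⟩) 3 (fun v => by
    apply Subtype.ext
    show ζ (ζ (ζ v)) = v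
    rw [Z.sq, Z.sq, add_right_comm, vv, zero_add])
  have h3 : Nat.card {x : W // (⟨ζ x, hW x x.2⟩ : W) = x} = 1 := by
    rw [Nat.card_eq_one_iff_unique]
    refine ⟨⟨fun x y => ?_⟩, ⟨⟨0, Subtype.ext (map_zero _)⟩⟩⟩
    have key : ∀ x : {x : W // (⟨ζ x, hW x x.2⟩ : W) = x}, ((x : W) : V) = 0 := fun x =>
      Z.ne (congrArg Subtype.val x.2)
    apply Subtype.ext
    apply Subtype.ext
    rw [key x, key y]
  rw [h3, h1] at h2
  rcases Nat.even_or_odd m with ⟨k, hk⟩ | ⟨k, hk⟩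
  · exact ⟨k, by rw [h1, hk, ← two_mul, pow_mul]; rfl⟩
  · exfalso
    rw [hk, pow_succ, pow_mul] at h2
    have h4 : (2 ^ 2) ^ k ≡ 1 ^ k [MOD 3] := Nat.ModEq.pow k (by decide)
    rw [one_pow] at h4
    have h5 := (h4.mul_right 2).symm.trans h2
    exact absurd h5 (by decide)

/-- `C_V(g)` -/
def Fx (ρ : H →* (V ≃ₗ[ZMod 2] V)) (g : H) : Submodule (ZMod 2) V where
  carrier := {v | ρ g v = v}
  zero_mem' := map_zero _
  add_mem' := fun {u v} hu hv => by
    show ρ g (u + v) = u + v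
    rw [map_add, show ρ g u = u from hu, show ρ g v = v from hv]
  smul_mem' := fun k v hv => by
    show ρ g (k • v) = k • v
    rw [map_smul, show ρ g v = v from hv]

theorem mem_Fx {g : H} {v : V} : v ∈ Fx ρ g ↔ ρ g v = v := Iff.rfl

theorem iterate_eq (g : H) (n : ℕ) (v : V) : (fun v => ρ g v)^[n] v = ρ (g ^ n) v := by
  induction n generalizing v with
  | zero => rw [pow_zero, rho_one]; rfl
  | succ n ih => rw [Function.iterate_succ_apply, ih, pow_succ, rho_mul]

/-- `|C_V(g)| = 4 ^ k`, `k ≤ w`, `4 ^ w ≡ 4 ^ k` mod `p` -/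
theorem fix_card (C : Cfg ρ b q a D X w) (Z : Zt ρ b ζ) {g : H} (hl : Lin ρ ζ g) {p : ℕ} [hp : Fact p.Prime]
    (hg : g ^ p = 1) : ∃ k, k ≤ w ∧ Nat.card (Fx ρ g) = 4 ^ k ∧ 4 ^ w ≡ 4 ^ k [MOD p] := by
  have := C.finite_V
  obtain ⟨k, hk⟩ := card_four Z (Fx ρ g) (fun v hv => by
    show ρ g (ζ v) = ζ v
    rw [hl, show ρ g v = v from hv])
  have hV : Nat.card V = 4 ^ w := by rw [C.card_V, pow_mul]; rfl
  refine ⟨k, ?_, hk, ?_⟩
  · have h1 := Nat.card_le_card_of_injective _ (Subtype.val_injective : Function.Injective (Subtype.val : Fx ρ g → V))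
    rw [hk, hV] at h1
    exact (Nat.pow_le_pow_iff_right (by norm_num)).1 h1
  · have h1 := card_fix_mod (α := V) (fun v => ρ g v) p (fun v => by rw [iterate_eq, hg, rho_one])
    rw [hV] at h1
    have h2 : Nat.card {x : V // ρ g x = x} = Nat.card (Fx ρ g) := rfl
    rw [h2, hk] at h1
    exact h1

theorem eq_one_of_card (C : Cfg ρ b q a D X w) {g : H} (h : Nat.card (Fx ρ g) = 4 ^ w) : g = 1 := by
  have := C.finite_V
  have hV : Nat.card V = 4 ^ w := by rw [C.card_V, pow_mul]; rfl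
  apply C.ext
  intro v
  rw [C.ρ_one]
  by_contra hv
  have h1 := card_span_sup (A := Fx ρ g) (d := v) hv
  have h2 := Nat.card_le_card_of_injective _ (Subtype.val_injective :
    Function.Injective (Subtype.val : (Fx ρ g ⊔ Submodule.span (ZMod 2) {v} : Submodule (ZMod 2) V) → V))
  rw [h1, h, hV] at h2
  have h3 : 0 < 4 ^ w := by positivity
  omega

/-- the sum over the powers of `g` -/
theorem sum_fix (C : Cfg ρ b q a D X w) {g : H} {p : ℕ} (hg : g ^ p = 1) (hp : Odd p) {v : V}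
    (hv : ρ g v = v) (h : ∀ u, ρ g u = u → b v u = 0) : v = 0 := by
  apply C.nondeg
  intro u
  have h1 : ρ g (∑ i ∈ Finset.range p, ρ (g ^ i) u) = ∑ i ∈ Finset.range p, ρ (g ^ i) u := by
    rw [map_sum]
    have e : ∀ i, ρ g (ρ (g ^ i) u) = ρ (g ^ (i + 1)) u := fun i => by rw [← rho_mul, pow_succ']
    simp only [e]
    have h2 := Finset.sum_range_succ (fun i => ρ (g ^ i) u) p
    have h3 := Finset.sum_range_succ' (fun i => ρ (g ^ i) u) p
    rw [h2, hg, pow_zero] at h3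
    exact (add_right_cancel h3).symm
  have h2 := h _ h1
  rw [map_sum] at h2
  have h3 : ∀ i, b v (ρ (g ^ i) u) = b v u := by
    intro i
    have hvi : ρ (g ^ i) v = v := by
      induction i with
      | zero => rw [pow_zero, rho_one]
      | succ i ih => rw [pow_succ, rho_mul, hv, ih]
    nth_rewrite 1 [← hvi]
    exact C.b_inv _ v u
  rw [Finset.sum_congr rfl fun i _ => h3 i, Finset.sum_const, Finset.card_range] at h2
  obtain ⟨m, rfl⟩ := hp
  rw [add_smul, mul_comm, mul_smul, one_smul, two_smul, CharTwo.add_self_eq_zero, smul_zero, zero_add] at h2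
  exact h2

/-- type (B) : `C_V(g)` is not of order 4 -/
theorem not_four (C : Cfg ρ b q a D X w) (Z : Zt ρ b ζ) (t : ∀ u v, b (ζ u) v = b u (ζ v)) {g : H}
    (hl : Lin ρ ζ g) {p : ℕ} (hg : g ^ p = 1) (hp : Odd p) (h4 : Nat.card (Fx ρ g) = 4) : False := by
  have := C.finite_V
  have hz : ∀ v ∈ Fx ρ g, ζ v ∈ Fx ρ g := fun v hv => by
    show ρ g (ζ v) = ζ v
    rw [hl, show ρ g v = v from hv]
  obtain ⟨v, hv, hv0⟩ : ∃ v ∈ Fx ρ g, v ≠ 0 := by
    by_contra hcon
    push Not at hcon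
    have h1 : Fx ρ g = ⊥ := (Submodule.eq_bot_iff _).2 hcon
    rw [h1] at h4
    simp at h4
  -- `Fx = {0, v, ζ v, ζ v + v}`
  have h1 : ζ v ∉ Submodule.span (ZMod 2) {v} := by
    intro h
    obtain ⟨k, hk⟩ := Submodule.mem_span_singleton.1 h
    rcases zmod_two k with rfl | rfl
    · rw [zero_smul] at hk; exact hv0 (Z.zero hk.symm)
    · rw [one_smul] at hk; exact hv0 (Z.ne hk.symm)
  have h2 := card_span_sup h1
  have h3 := card_span_sup (A := (⊥ : Submodule (ZMod 2) V)) (d := v) (by rw [Submodule.mem_bot]; exact hv0)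
  rw [bot_sup_eq] at h3
  have h3' : Nat.card (⊥ : Submodule (ZMod 2) V) = 1 := Nat.card_unique
  have h5 : Submodule.span (ZMod 2) {v} ⊔ Submodule.span (ZMod 2) {ζ v} = Fx ρ g := by
    have hle : Submodule.span (ZMod 2) {v} ⊔ Submodule.span (ZMod 2) {ζ v} ≤ Fx ρ g :=
      sup_le (by rw [Submodule.span_singleton_le_iff_mem]; exact hv)
        (by rw [Submodule.span_singleton_le_iff_mem]; exact hz v hv)
    apply SetLike.coe_injective
    apply Set.eq_of_subset_of_ncard_le hle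
    rw [← Nat.card_coe_set_eq, ← Nat.card_coe_set_eq]
    show Nat.card (Fx ρ g) ≤ Nat.card (Submodule.span (ZMod 2) {v} ⊔ Submodule.span (ZMod 2) {ζ v} :
      Submodule (ZMod 2) V)
    rw [h2, h3, h3', h4]
  apply hv0
  apply sum_fix C hg hp hv
  intro u hu
  have hu' : u ∈ Fx ρ g := hu
  rw [← h5] at hu'
  obtain ⟨x, hx, y, hy, rfl⟩ := Submodule.mem_sup.1 hu'
  obtain ⟨k, rfl⟩ := Submodule.mem_span_singleton.1 hx
  obtain ⟨m, rfl⟩ := Submodule.mem_span_singleton.1 hy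
  rw [map_add, map_smul, map_smul, C.b_self, ← t, beta C Z t, smul_zero, smul_zero, add_zero]

theorem no73 (C : Cfg ρ b q a D X 6) (Z : Zt ρ b ζ) {g : H} (hl : Lin ρ ζ g) (hg : orderOf g = 73) : False := by
  have : Fact (Nat.Prime 73) := ⟨by norm_num⟩
  obtain ⟨k, hk, h1, h2⟩ := fix_card C Z hl (p := 73) (by rw [← hg]; exact pow_orderOf_eq_one g)
  have h3 : k = 6 := by
    interval_cases k <;> first | rfl | (exfalso; revert h2; decide)
  rw [h3] at h1
  rw [eq_one_of_card C h1, orderOf_one] at hg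
  norm_num at hg

theorem no11 (C : Cfg ρ b q a D X 6) (Z : Zt ρ b ζ) (t : ∀ u v, b (ζ u) v = b u (ζ v)) {g : H} (hl : Lin ρ ζ g)
    (hg : orderOf g = 11) : False := by
  have : Fact (Nat.Prime 11) := ⟨by norm_num⟩
  have hg1 : g ^ 11 = 1 := by rw [← hg]; exact pow_orderOf_eq_one g
  obtain ⟨k, hk, h1, h2⟩ := fix_card C Z hl (p := 11) hg1
  have h3 : k = 1 ∨ k = 6 := by
    interval_cases k <;> first | exact Or.inl rfl | exact Or.inr rfl | (exfalso; revert h2; decide)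
  rcases h3 with rfl | rfl
  · exact not_four C Z t hl hg1 (by decide) h1
  · rw [eq_one_of_card C h1, orderOf_one] at hg
    norm_num at hg

theorem no31 (C : Cfg ρ b q a D X 6) (Z : Zt ρ b ζ) (t : ∀ u v, b (ζ u) v = b u (ζ v)) {g : H} (hl : Lin ρ ζ g)
    (hg : orderOf g = 31) : False := by
  have : Fact (Nat.Prime 31) := ⟨by norm_num⟩
  have hg1 : g ^ 31 = 1 := by rw [← hg]; exact pow_orderOf_eq_one g
  obtain ⟨k, hk, h1, h2⟩ := fix_card C Z hl (p := 31) hg1
  have h3 : k = 1 ∨ k = 6 := by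
    interval_cases k <;> first | exact Or.inl rfl | exact Or.inr rfl | (exfalso; revert h2; decide)
  rcases h3 with rfl | rfl
  · exact not_four C Z t hl hg1 (by decide) h1
  · rw [eq_one_of_card C h1, orderOf_one] at hg
    norm_num at hg

end Cfsg.Agent.Omega.EH3.ESix.Prime
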