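import Cfsg.Agent.Omega.EH3.Cons

/-!
# EH3, shape (iii): `End_L(V) = F₄`, the `F₄`-structure (helper415; bb OMEGA #16215)

`Zt ρ b ζ` : `ζ² + ζ + 1 = 0`, `H` normalises `⟨ζ⟩`, `ζ` is self-adjoint (`B`) or an isometry (`U`).
`Lin ρ ζ h` : `h` commutes with `ζ`; `AA ζ a = F₄ a`; `AP b ζ a = (F₄ a)^⊥`.

* `exists_nonlin` : some `x ∈ X` does not commute with `ζ`;
* `fix_lin` : `C_V(X₀) = F₄ a`, `X₀ = C_X(ζ)`; `AA_le_D`, `inter` : `D ∩ ζ D = F₄ a`, `exists_dec` : `(F₄ a)^⊥ = D + ζ D`;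
* `card_AP`, `card_AA`.
-/

set_option autoImplicit false

namespace Cfsg.Agent.Omega.EH3.ESix.Base

open Cfsg.Agent.Omega.EH3

variable {H V : Type*} [Group H] [AddCommGroup V] [Module (ZMod 2) V]
  {ρ : H →* (V ≃ₗ[ZMod 2] V)} {b : LinearMap.BilinForm (ZMod 2) V} {q : V → ZMod 2}
  {a : V} {D : Submodule (ZMod 2) V} {X : Subgroup H} {w : ℕ} {ζ : V →ₗ[ZMod 2] V}

/-- the `F₄`-structure -/
structure Zt (ρ : H →* (V ≃ₗ[ZMod 2] V)) (b : LinearMap.BilinForm (ZMod 2) V) (ζ : V →ₗ[ZMod 2] V) : Prop where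
  sq : ∀ v, ζ (ζ v) = ζ v + v
  semi : ∀ h, (∀ v, ρ h (ζ v) = ζ (ρ h v)) ∨ (∀ v, ρ h (ζ v) = ζ (ρ h v) + ρ h v)
  type : (∀ u v, b (ζ u) v = b u (ζ v)) ∨ (∀ u v, b (ζ u) v = b u (ζ v) + b u v)

/-- `h` commutes with `ζ` -/
def Lin (ρ : H →* (V ≃ₗ[ZMod 2] V)) (ζ : V →ₗ[ZMod 2] V) (h : H) : Prop := ∀ v, ρ h (ζ v) = ζ (ρ h v)

theorem vv (v : V) : v + v = 0 := ZModModule.add_self v

theorem Zt.zero (Z : Zt ρ b ζ) {v : V} (h : ζ v = 0) : v = 0 := by
  have := Z.sq v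
  rwa [h, map_zero, zero_add, eq_comm] at this

theorem Zt.inj (Z : Zt ρ b ζ) : Function.Injective ζ := by
  intro u v h
  have h1 : ζ (u - v) = 0 := by rw [map_sub, h, sub_self]
  exact sub_eq_zero.1 (Z.zero h1)

theorem Zt.ne (Z : Zt ρ b ζ) {v : V} (h : ζ v = v) : v = 0 := by
  have := Z.sq v
  rw [h, vv] at this
  rwa [h] at this

theorem rho_mul (g h : H) (v : V) : ρ (g * h) v = ρ g (ρ h v) := by rw [map_mul]; rfl

theorem rho_one (v : V) : ρ 1 v = v := by rw [map_one]; rfl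

theorem Zt.nonlin (Z : Zt ρ b ζ) {h : H} (hh : ¬ Lin ρ ζ h) (v : V) : ρ h (ζ v) = ζ (ρ h v) + ρ h v :=
  (Z.semi h).resolve_left hh v

theorem Zt.lin_mul' (Z : Zt ρ b ζ) {g h : H} (hg : ¬ Lin ρ ζ g) (hh : ¬ Lin ρ ζ h) : Lin ρ ζ (g * h) := by
  intro v
  rw [rho_mul, rho_mul, Z.nonlin hh, map_add, Z.nonlin hg, add_assoc, vv, add_zero]

theorem lin_mul {g h : H} (hg : Lin ρ ζ g) (hh : Lin ρ ζ h) : Lin ρ ζ (g * h) := by
  intro v
  rw [rho_mul, rho_mul, hh v, hg]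

theorem lin_one : Lin ρ ζ (1 : H) := by
  intro v
  rw [rho_one, rho_one]

theorem lin_inv {g : H} (hg : Lin ρ ζ g) : Lin ρ ζ g⁻¹ := by
  intro v
  apply (ρ g).injective
  rw [← rho_mul, mul_inv_cancel, rho_one, hg, ← rho_mul, mul_inv_cancel, rho_one]

theorem exists_nonlin (C : Cfg ρ b q a D X w) (Z : Zt ρ b ζ) : ∃ x ∈ X, ¬ Lin ρ ζ x := by
  by_contra hcon
  push Not at hcon
  have h1 : ∀ x ∈ X, ρ x (ζ a) = ζ a := fun x hx => by rw [hcon x hx, C.X_a hx]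
  rcases C.fix_X h1 with h | h
  · exact C.a_ne (Z.zero h)
  · exact C.a_ne (Z.ne h)

/-! ### `F₄ a` -/

/-- `F₄ a` -/
def AA (ζ : V →ₗ[ZMod 2] V) (a : V) : Submodule (ZMod 2) V := Submodule.span (ZMod 2) {a, ζ a}

theorem mem_AA {v : V} : v ∈ AA ζ a ↔ ∃ s t : ZMod 2, s • a + t • ζ a = v := Submodule.mem_span_pair

theorem a_mem_AA : a ∈ AA ζ a := Submodule.subset_span (by simp)

theorem za_mem_AA : ζ a ∈ AA ζ a := Submodule.subset_span (by simp)

theorem Zt.z_mem_AA (Z : Zt ρ b ζ) {v : V} (h : v ∈ AA ζ a) : ζ v ∈ AA ζ a := by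
  obtain ⟨s, t, rfl⟩ := mem_AA.1 h
  rw [map_add, map_smul, map_smul, Z.sq]
  exact add_mem (Submodule.smul_mem _ _ za_mem_AA)
    (Submodule.smul_mem _ _ (add_mem za_mem_AA a_mem_AA))

/-- **`C_V(X₀) = F₄ a`** -/
theorem fix_lin (C : Cfg ρ b q a D X w) (Z : Zt ρ b ζ) {v : V} (h : ∀ x ∈ X, Lin ρ ζ x → ρ x v = v) :
    v ∈ AA ζ a := by
  obtain ⟨x₁, hx₁, hn⟩ := exists_nonlin C Z
  have key : ∀ u : V, (∀ x ∈ X, Lin ρ ζ x → ρ x u = u) → ρ x₁ u = u ∨ ρ x₁ u = u + a := by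
    intro u hu
    have h1 : ρ x₁ u + u = 0 ∨ ρ x₁ u + u = a := by
      apply C.fix_X
      intro x hx
      by_cases hl : Lin ρ ζ x
      · rw [map_add, hu x hx hl, ← rho_mul, C.X_comm hx hx₁, rho_mul, hu x hx hl]
      · have h2 : ρ (x * x₁) u = u := hu _ (X.mul_mem hx hx₁) (Z.lin_mul' hl hn)
        have h3 : ρ (x₁ * x) u = u := by rw [C.X_comm hx₁ hx]; exact h2
        have h4 : ρ x u = ρ x₁ u := by
          rw [rho_mul] at h3
          have h5 := congrArg (ρ x₁) h3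
          rwa [← rho_mul, C.X_sq x₁ hx₁, rho_one] at h5
        rw [map_add, ← rho_mul, h2, h4, add_comm]
    rcases h1 with h1 | h1
    · left
      have := congrArg (· + u) h1
      simpa [add_assoc, vv] using this
    · right
      have := congrArg (· + u) h1
      simpa [add_assoc, vv, add_comm u a] using this
  have hz : ∀ x ∈ X, Lin ρ ζ x → ρ x (ζ v) = ζ v := fun x hx hl => by rw [hl, h x hx hl]
  rcases key v h with h1 | h1
  · have h2 : v = 0 ∨ v = a := by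
      apply C.fix_X
      intro x hx
      by_cases hl : Lin ρ ζ x
      · exact h x hx hl
      · have h2 : ρ (x₁ * x) v = v := h _ (X.mul_mem hx₁ hx) (Z.lin_mul' hn hl)
        rw [rho_mul] at h2
        have h3 := congrArg (ρ x₁) h2
        rwa [← rho_mul, C.X_sq x₁ hx₁, rho_one, h1] at h3
    rcases h2 with rfl | rfl
    · exact zero_mem _
    · exact a_mem_AA
  · have h2 := key (ζ v) hz
    rw [Z.nonlin hn, h1, map_add] at h2
    -- `ζ v + ζ a + (v + a) = ζ v` or `= ζ v + a`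
    have h3 : v = ζ a + a ∨ v = ζ a := by
      rcases h2 with h2 | h2
      · left
        have h4 : ζ a + (v + a) = 0 := by
          have : ζ v + (ζ a + (v + a)) = ζ v + 0 := by rw [← add_assoc, h2, add_zero]
          exact add_left_cancel this
        have h5 : v + (ζ a + a) = 0 := by rw [← h4]; abel
        exact (add_eq_zero_iff_eq_neg.1 h5).trans (ZModModule.neg_eq_self _)
      · right
        have h4 : ζ a + (v + a) = a := by
          have : ζ v + (ζ a + (v + a)) = ζ v + a := by rw [← add_assoc, h2]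
          exact add_left_cancel this
        have h5 : v + ζ a = 0 := by
          rw [show v + ζ a = (ζ a + (v + a)) - a by abel, h4, sub_self]
        exact (add_eq_zero_iff_eq_neg.1 h5).trans (ZModModule.neg_eq_self _)
    rcases h3 with rfl | rfl
    · exact add_mem za_mem_AA a_mem_AA
    · exact za_mem_AA

theorem za_mem_D (C : Cfg ρ b q a D X w) (Z : Zt ρ b ζ) : ζ a ∈ D := by
  refine C.mem_D_of_fix_mod fun x hx => ?_
  rcases Z.semi x with h | h
  · exact ⟨0, by rw [h, C.X_a hx, vv, zero_smul]⟩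
  · refine ⟨1, ?_⟩
    rw [h, C.X_a hx, one_smul, add_right_comm, vv, zero_add]

theorem AA_le_D (C : Cfg ρ b q a D X w) (Z : Zt ρ b ζ) : AA ζ a ≤ D := by
  rw [AA, Submodule.span_le]
  rintro v (rfl | rfl)
  · exact C.a_mem
  · exact za_mem_D C Z

/-- `D ∩ ζ D ≤ F₄ a` -/
theorem inter (C : Cfg ρ b q a D X w) (Z : Zt ρ b ζ) {d : V} (hd : d ∈ D) (hzd : ζ d ∈ D) : d ∈ AA ζ a := by
  refine fix_lin C Z fun x hx hl => ?_
  rcases C.X_D x hx d hd with h | h
  · exact h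
  · exfalso
    have h1 := C.X_D x hx _ hzd
    rw [hl, h, map_add] at h1
    rcases h1 with h1 | h1
    · exact C.a_ne (Z.zero (left_eq_add.1 h1.symm))
    · exact C.a_ne (Z.ne (add_left_cancel h1))

theorem card_AA (C : Cfg ρ b q a D X w) (Z : Zt ρ b ζ) : Nat.card (AA ζ a) = 4 := by
  let f : ZMod 2 × ZMod 2 → AA ζ a := fun p => ⟨p.1 • a + p.2 • ζ a, mem_AA.2 ⟨p.1, p.2, rfl⟩⟩
  have hf : Function.Bijective f := by
    constructor
    · rintro ⟨s, t⟩ ⟨s', t'⟩ h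
      have h1 : s • a + t • ζ a = s' • a + t' • ζ a := congrArg Subtype.val h
      have h2 : (s + s') • a + (t + t') • ζ a = 0 := by
        rw [add_smul, add_smul]
        have : s • a + s' • a + (t • ζ a + t' • ζ a) = (s • a + t • ζ a) + (s' • a + t' • ζ a) := by abel
        rw [this, h1, vv]
      have h3 : s + s' = 0 ∧ t + t' = 0 := by
        rcases zmod_two (s + s') with h4 | h4 <;> rcases zmod_two (t + t') with h5 | h5
        · exact ⟨h4, h5⟩
        · rw [h4, h5, zero_smul, one_smul, zero_add] at h2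
          exact absurd (Z.zero h2) C.a_ne
        · rw [h4, h5, zero_smul, one_smul, add_zero] at h2
          exact absurd h2 C.a_ne
        · rw [h4, h5, one_smul, one_smul] at h2
          exact absurd (Z.ne ((add_eq_zero_iff_eq_neg.1 h2).trans (ZModModule.neg_eq_self _)).symm) C.a_ne
      exact Prod.ext (CharTwo.add_eq_zero.1 h3.1) (CharTwo.add_eq_zero.1 h3.2)
    · rintro ⟨v, hv⟩
      obtain ⟨s, t, rfl⟩ := mem_AA.1 hv
      exact ⟨(s, t), rfl⟩
  rw [← Nat.card_eq_of_bijective f hf, Nat.card_prod, Nat.card_zmod]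

/-! ### `(F₄ a)^⊥` -/

/-- `(F₄ a)^⊥` -/
def AP (b : LinearMap.BilinForm (ZMod 2) V) (ζ : V →ₗ[ZMod 2] V) (a : V) : Submodule (ZMod 2) V where
  carrier := {v | b a v = 0 ∧ b (ζ a) v = 0}
  zero_mem' := ⟨map_zero _, map_zero _⟩
  add_mem' := by
    rintro u v ⟨h1, h2⟩ ⟨h3, h4⟩
    exact ⟨by rw [map_add, h1, h3, add_zero], by rw [map_add, h2, h4, add_zero]⟩
  smul_mem' := by
    rintro c v ⟨h1, h2⟩
    exact ⟨by rw [map_smul, h1, smul_zero], by rw [map_smul, h2, smul_zero]⟩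

theorem mem_AP {v : V} : v ∈ AP b ζ a ↔ b a v = 0 ∧ b (ζ a) v = 0 := Iff.rfl

theorem AP_perp {v u : V} (hv : v ∈ AP b ζ a) (hu : u ∈ AA ζ a) : b u v = 0 := by
  obtain ⟨s, t, rfl⟩ := mem_AA.1 hu
  rw [map_add, map_smul, map_smul, LinearMap.add_apply, LinearMap.smul_apply, LinearMap.smul_apply, hv.1, hv.2,
    smul_zero, smul_zero, add_zero]

theorem AP_eq : AP b ζ a = b.orthogonal (AA ζ a) := by
  ext v
  rw [LinearMap.BilinForm.mem_orthogonal_iff]
  exact ⟨fun h u hu => AP_perp h hu, fun h => ⟨h a a_mem_AA, h (ζ a) za_mem_AA⟩⟩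

theorem card_AP (C : Cfg ρ b q a D X w) (Z : Zt ρ b ζ) : 4 * Nat.card (AP b ζ a) = 2 ^ (2 * w) := by
  rw [AP_eq, ← C.card_V, ← card_AA C Z]
  exact C.card_perp _

theorem Zt.z_mem_AP (Z : Zt ρ b ζ) {v : V} (h : v ∈ AP b ζ a) : ζ v ∈ AP b ζ a := by
  rcases Z.type with t | t
  · refine ⟨by rw [← t]; exact h.2, ?_⟩
    rw [t, Z.sq, map_add, ← t, h.2, h.1, add_zero]
  · have e : ∀ u v, b u (ζ v) = b (ζ u) v + b u v := by
      intro u v
      rw [t, add_assoc, CharTwo.add_self_eq_zero, add_zero]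
    refine ⟨by rw [e, h.1, h.2, add_zero], ?_⟩
    rw [e, Z.sq, map_add, LinearMap.add_apply, h.1, h.2, add_zero, add_zero]

theorem D_le_AP (C : Cfg ρ b q a D X w) (Z : Zt ρ b ζ) : D ≤ AP b ζ a := fun _ hd =>
  ⟨C.b_D C.a_mem hd, C.b_D (za_mem_D C Z) hd⟩

/-- `(F₄ a)^⊥ = D + ζ D` -/
theorem exists_dec (C : Cfg ρ b q a D X w) (Z : Zt ρ b ζ) {v : V} (hv : v ∈ AP b ζ a) :
    ∃ d ∈ D, ∃ d' ∈ D, v = d + ζ d' := by
  have := C.finite_V
  have : Module.Finite (ZMod 2) V := Module.Finite.of_finite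
  have hle : D ⊔ D.map ζ ≤ AP b ζ a := by
    refine sup_le (D_le_AP C Z) ?_
    rintro _ ⟨d, hd, rfl⟩
    exact Z.z_mem_AP (D_le_AP C Z hd)
  have h1 := Submodule.finrank_sup_add_finrank_inf_eq D (D.map ζ)
  have h2 : Module.finrank (ZMod 2) D = w := by
    have h := Module.natCard_eq_pow_finrank (K := ZMod 2) (V := D)
    rw [C.card_D, Nat.card_zmod] at h
    exact (Nat.pow_right_injective (le_refl 2) h).symm
  have h3 : Module.finrank (ZMod 2) (D.map ζ) = w := by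
    rw [← h2]
    exact (LinearEquiv.finrank_eq (Submodule.equivMapOfInjective ζ Z.inj D)).symm
  have h4 : Module.finrank (ZMod 2) (D ⊓ D.map ζ : Submodule (ZMod 2) V) ≤ 2 := by
    have h5 : D ⊓ D.map ζ ≤ AA ζ a := by
      rintro _ ⟨h6, d, hd, rfl⟩
      exact Z.z_mem_AA (inter C Z hd h6)
    have h6 : Module.finrank (ZMod 2) (AA ζ a) = 2 := by
      have h := Module.natCard_eq_pow_finrank (K := ZMod 2) (V := AA ζ a)
      rw [card_AA C Z, Nat.card_zmod] at h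
      exact (Nat.pow_right_injective (le_refl 2) (show 2 ^ 2 = _ from h)).symm
    exact (Submodule.finrank_mono h5).trans h6.le
  have h5 : Module.finrank (ZMod 2) (AP b ζ a) + 2 = 2 * w := by
    have h := Module.natCard_eq_pow_finrank (K := ZMod 2) (V := AP b ζ a)
    rw [Nat.card_zmod] at h
    have h6 := card_AP C Z
    rw [h, show 4 = 2 ^ 2 from rfl, ← pow_add] at h6
    have := Nat.pow_right_injective (le_refl 2) h6
    omega
  have h6 : D ⊔ D.map ζ = AP b ζ a := by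
    apply Submodule.eq_of_le_of_finrank_le hle
    omega
  rw [← h6] at hv
  obtain ⟨d, hd, _, ⟨d', hd', rfl⟩, rfl⟩ := Submodule.mem_sup.1 hv
  exact ⟨d, hd, d', hd', rfl⟩

end Cfsg.Agent.Omega.EH3.ESix.Base
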