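import Cfsg.Agent.Omega.EH3.ESix.Base
import Cfsg.Agent.Omega.EH3.Kf.TwoNodes

/-!
# EH3, shape (iii), `w = 6`: the bound for the 2-part of `C_L(a)` (helper415; bb OMEGA #16215)

`P` a 2-group fixing `a` and commuting with `ζ`.
* `card_le` : the counting lemma;
* `bound_B` : `|P| ≤ 2 ^ 11` if `ζ` is self-adjoint; `bound_U` : `|P| ≤ 2 ^ 9` if `ζ` is an isometry.
-/

set_option autoImplicit false

namespace Cfsg.Agent.Omega.EH3.ESix.Bound

open Cfsg.Agent.Omega.EH3 Cfsg.Agent.Omega.EH3.ESix.Base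

variable {H V : Type*} [Group H] [AddCommGroup V] [Module (ZMod 2) V]
  {ρ : H →* (V ≃ₗ[ZMod 2] V)} {b : LinearMap.BilinForm (ZMod 2) V} {q : V → ZMod 2}
  {a : V} {D : Submodule (ZMod 2) V} {X : Subgroup H} {w : ℕ} {ζ : V →ₗ[ZMod 2] V}

/-- **The counting lemma.** -/
theorem card_le [Finite H] [Finite V] {P K : Subgroup H} (hKP : K ≤ P) {A S : Submodule (ZMod 2) V} (f : H → V)
    (hS : ∀ p ∈ P, ∀ α ∈ A, f p + α ∈ S) (h : ∀ p ∈ P, ∀ p' ∈ P, f p + f p' ∈ A → p⁻¹ * p' ∈ K) :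
    Nat.card P * Nat.card A ≤ Nat.card K * Nat.card S := by
  let Q := P ⧸ K.subgroupOf P
  let r : Q → P := Quotient.out
  let F : Q × A → S := fun x => ⟨f (r x.1) + x.2, hS _ (r x.1).2 _ x.2.2⟩
  have hF : Function.Injective F := by
    rintro ⟨x, α⟩ ⟨y, β⟩ hxy
    have h1 : f (r x) + (α : V) = f (r y) + (β : V) := congrArg Subtype.val hxy
    have h2 : f (r x) + f (r y) = (α : V) + β := by
      have h3 : f (r x) + f (r y) + ((α : V) + β) = (f (r x) + α) + (f (r y) + β) := by abel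
      rw [h1, vv] at h3
      exact (add_eq_zero_iff_eq_neg.1 h3).trans (ZModModule.neg_eq_self _)
    have h3 : x = y := by
      have h4 := h _ (r x).2 _ (r y).2 (by rw [h2]; exact add_mem α.2 β.2)
      have h5 : (QuotientGroup.mk (r x) : Q) = QuotientGroup.mk (r y) := by
        rw [QuotientGroup.eq]
        exact h4
      have h6 : (QuotientGroup.mk (r x) : Q) = x := Quotient.out_eq x
      have h7 : (QuotientGroup.mk (r y) : Q) = y := Quotient.out_eq y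
      rw [h6, h7] at h5
      exact h5
    subst h3
    exact Prod.ext rfl (Subtype.ext (add_left_cancel h1))
  have h1 : Nat.card Q * Nat.card A ≤ Nat.card S := by
    rw [← Nat.card_prod]
    exact Nat.card_le_card_of_injective F hF
  have h2 : Nat.card P = Nat.card Q * Nat.card K := by
    rw [← Nat.card_congr (Subgroup.subgroupOfEquivOfLe hKP).toEquiv]
    exact Subgroup.card_eq_card_quotient_mul_card_subgroup _
  calc Nat.card P * Nat.card A = Nat.card K * (Nat.card Q * Nat.card A) := by rw [h2]; ring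
    _ ≤ _ := Nat.mul_le_mul_left _ h1

/-- what is used about the group `P` -/
structure Gp (ρ : H →* (V ≃ₗ[ZMod 2] V)) (a : V) (ζ : V →ₗ[ZMod 2] V) (P : Subgroup H) : Prop where
  fix : ∀ p ∈ P, ρ p a = a
  lin : ∀ p ∈ P, Lin ρ ζ p

theorem Gp.inv {P : Subgroup H} (hP : Gp ρ a ζ P) {p p' : H} (hp : p ∈ P) (c : V) {A : Submodule (ZMod 2) V}
    (hA : ∀ v ∈ A, ρ p⁻¹ v ∈ A) (h : (ρ p c + c) + (ρ p' c + c) ∈ A) : ρ (p⁻¹ * p') c + c ∈ A := by
  have _ := hP.fix p hp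
  have h1 : ρ p⁻¹ ((ρ p c + c) + (ρ p' c + c)) = ρ (p⁻¹ * p') c + c := by
    have h2 : (ρ p c + c) + (ρ p' c + c) = ρ p c + ρ p' c + (c + c) := by abel
    rw [h2, vv, add_zero, map_add, ← rho_mul, ← rho_mul, inv_mul_cancel, rho_one, add_comm]
  rw [← h1]
  exact hA _ h

theorem fix_AA {p : H} (hp : ρ p a = a) (hl : Lin ρ ζ p) {α : V} (h : α ∈ AA ζ a) : ρ p α = α := by
  obtain ⟨s, t, rfl⟩ := mem_AA.1 h
  rw [map_add, map_smul, map_smul, hl, hp]

/-- `[V, p] ≤ (F₄ a)^⊥` -/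
theorem toAP (C : Cfg ρ b q a D X w) {p : H} (hp : ρ p a = a) (hl : Lin ρ ζ p) (v : V) :
    ρ p v + v ∈ AP b ζ a := by
  constructor
  · rw [map_add]
    nth_rewrite 1 [← hp]
    rw [C.b_inv, CharTwo.add_self_eq_zero]
  · rw [map_add]
    nth_rewrite 1 [← hp]
    rw [← hl, C.b_inv, CharTwo.add_self_eq_zero]

/-- elements acting trivially on `D / F₄ a` -/
def PE (ρ : H →* (V ≃ₗ[ZMod 2] V)) (a : V) (D : Submodule (ZMod 2) V) (ζ : V →ₗ[ZMod 2] V) (P : Subgroup H)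
    (hP : Gp ρ a ζ P) : Subgroup H where
  carrier := {p | p ∈ P ∧ ∀ d ∈ D, ρ p d + d ∈ AA ζ a}
  one_mem' := ⟨P.one_mem, fun d _ => by rw [rho_one, vv]; exact zero_mem _⟩
  mul_mem' := by
    rintro p r ⟨hp, hpd⟩ ⟨hr, hrd⟩
    refine ⟨P.mul_mem hp hr, fun d hd => ?_⟩
    have h1 : ρ (p * r) d + d = ρ p (ρ r d + d) + (ρ p d + d) := by
      rw [rho_mul, map_add, add_assoc, ← add_assoc (ρ p d), vv, zero_add]
    rw [h1, fix_AA (hP.fix p hp) (hP.lin p hp) (hrd d hd)]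
    exact add_mem (hrd d hd) (hpd d hd)
  inv_mem' := by
    rintro p ⟨hp, hpd⟩
    refine ⟨P.inv_mem hp, fun d hd => ?_⟩
    have h1 := hpd d hd
    have h2 : ρ p⁻¹ (ρ p d + d) = ρ p⁻¹ d + d := by
      rw [map_add, ← rho_mul, inv_mul_cancel, rho_one, add_comm]
    rw [← h2, fix_AA (hP.fix _ (P.inv_mem hp)) (hP.lin _ (P.inv_mem hp)) h1]
    exact h1

variable {P : Subgroup H}

theorem PE_le (hP : Gp ρ a ζ P) : PE ρ a D ζ P hP ≤ P := fun _ h => h.1

theorem PE_AP (C : Cfg ρ b q a D X w) (Z : Zt ρ b ζ) (hP : Gp ρ a ζ P) {p : H} (hp : p ∈ PE ρ a D ζ P hP) {v : V}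
    (hv : v ∈ AP b ζ a) : ρ p v + v ∈ AA ζ a := by
  obtain ⟨d, hd, d', hd', rfl⟩ := exists_dec C Z hv
  have h1 : ρ p (d + ζ d') + (d + ζ d') = (ρ p d + d) + ζ (ρ p d' + d') := by
    rw [map_add, hP.lin p hp.1, map_add]
    abel
  rw [h1]
  exact add_mem (hp.2 d hd) (Z.z_mem_AA (hp.2 d' hd'))

theorem eq_zero_of (C : Cfg ρ b q a D X w) (Z : Zt ρ b ζ) {c s : V} (hc : b a c = 1) (hs : s ∈ AA ζ a)
    (h1 : b s c = 0) (h2 : b s (ζ c) = 0) : s = 0 := by
  have h3 : b (ζ s) c = 0 := by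
    rcases Z.type with t | t
    · rw [t, h2]
    · rw [t, h2, h1, add_zero]
  obtain ⟨x, y, rfl⟩ := mem_AA.1 hs
  rcases zmod_two x with rfl | rfl <;> rcases zmod_two y with rfl | rfl
  · rw [zero_smul, zero_smul, add_zero]
  · exfalso
    rw [zero_smul, one_smul, zero_add] at h1 h3
    rw [Z.sq, map_add, LinearMap.add_apply, h1, zero_add, hc] at h3
    exact one_ne_zero h3
  · exfalso
    rw [zero_smul, one_smul, add_zero, hc] at h1
    exact one_ne_zero h1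
  · exfalso
    rw [one_smul, one_smul] at h3
    have : ζ (a + ζ a) = a := by rw [map_add, Z.sq, ← add_assoc, vv, zero_add]
    rw [this, hc] at h3
    exact one_ne_zero h3

/-- the two pairings -/
theorem cross (C : Cfg ρ b q a D X w) {p : H} (hp : ρ p a = a) (hl : Lin ρ ζ p) (c : V) {u : V}
    (hu : ρ p u + u ∈ AA ζ a) :
    b (ρ p u + u) c = b u (ρ p c + c) ∧ b (ρ p u + u) (ζ c) = b u (ζ (ρ p c + c)) := by
  have key : ∀ e : V, b (ρ p u + u) e = b u (ρ p e + e) := by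
    intro e
    have h1 := AP_perp (toAP C hp hl e) hu
    have h2 := C.b_inv p u e
    rw [map_add, map_add b, LinearMap.add_apply, LinearMap.add_apply, h2] at h1
    rw [map_add b, LinearMap.add_apply, map_add (b u)]
    -- `h1 : b u e + b u (ρ p e) + (b (ρ p u) e + b u e) = 0`
    have h3 := CharTwo.add_self_eq_zero (b u e)
    have h4 : (b (ρ p u) e + b u e) + (b u (ρ p e) + b u e) = 0 := by
      rw [← h1]; ring
    exact CharTwo.add_eq_zero.1 h4
  refine ⟨key c, ?_⟩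
  rw [key (ζ c), hl, map_add ζ]

theorem exists_AP (C : Cfg ρ b q a D X w) (Z : Zt ρ b ζ) {c : V} (hc : b a c = 1) (v : V) :
    ∃ x y : ZMod 2, v + x • c + y • ζ c ∈ AP b ζ a := by
  have hd : ∀ k m n : ZMod 2, (∃ x y : ZMod 2, m + x * 1 + y * k = 0 ∧ n + x * k + y * (k + 1) = 0) ∧
      (∃ x y : ZMod 2, m + x * 1 + y * (k + 1) = 0 ∧ n + x * k + y * 1 = 0) := by decide
  rcases Z.type with t | t
  · obtain ⟨⟨x, y, h1, h2⟩, -⟩ := hd (b (ζ a) c) (b a v) (b (ζ a) v)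
    refine ⟨x, y, ?_, ?_⟩
    · rw [map_add, map_add, map_smul, map_smul, hc, ← t, smul_eq_mul, smul_eq_mul, h1]
    · rw [map_add, map_add, map_smul, map_smul, ← t, Z.sq, map_add, LinearMap.add_apply, hc, smul_eq_mul,
        smul_eq_mul, h2]
  · have e : ∀ u v, b u (ζ v) = b (ζ u) v + b u v := by
      intro u v
      rw [t, add_assoc, CharTwo.add_self_eq_zero, add_zero]
    obtain ⟨-, x, y, h1, h2⟩ := hd (b (ζ a) c) (b a v) (b (ζ a) v)
    refine ⟨x, y, ?_, ?_⟩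
    · rw [map_add, map_add, map_smul, map_smul, hc, e, hc, smul_eq_mul, smul_eq_mul, h1]
    · rw [map_add, map_add, map_smul, map_smul, e, Z.sq, map_add, LinearMap.add_apply, hc, smul_eq_mul, smul_eq_mul]
      have : b (ζ a) c + 1 + b (ζ a) c = 1 := by
        rw [add_right_comm, CharTwo.add_self_eq_zero, zero_add]
      rw [this, h2]

/-- an element of `PE` fixing `c` is trivial -/
theorem eq_one_of_fix (C : Cfg ρ b q a D X w) (Z : Zt ρ b ζ) (hP : Gp ρ a ζ P) {p : H}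
    (hp : p ∈ PE ρ a D ζ P hP) {c : V} (hc : b a c = 1) (h : ρ p c = c) : p = 1 := by
  have hl := hP.lin p hp.1
  have ha := hP.fix p hp.1
  have h1 : ∀ u ∈ AP b ζ a, ρ p u = u := by
    intro u hu
    have h2 := PE_AP C Z hP hp hu
    obtain ⟨h3, h4⟩ := cross C ha hl c h2
    rw [h, vv, map_zero] at h3
    rw [h, vv, map_zero, map_zero] at h4
    have h5 := eq_zero_of C Z hc h2 h3 h4
    exact (add_eq_zero_iff_eq_neg.1 h5).trans (ZModModule.neg_eq_self _)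
  apply C.ext
  intro v
  rw [C.ρ_one]
  obtain ⟨x, y, hv⟩ := exists_AP C Z hc v
  have h2 := h1 _ hv
  rw [map_add, map_add, map_smul, map_smul, hl, h] at h2
  exact add_right_cancel (add_right_cancel h2)

/-- the form equations -/
theorem q_eq (C : Cfg ρ b q a D X w) {p : H} (hl : Lin ρ ζ p) (c : V) :
    q (ρ p c + c) = b c (ρ p c + c) ∧ q (ζ (ρ p c + c)) = b (ζ c) (ζ (ρ p c + c)) := by
  have key : ∀ e : V, q (ρ p e + e) = b e (ρ p e + e) := by
    intro e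
    rw [C.q_add, C.q_inv, map_add, C.b_self, add_zero, CharTwo.add_self_eq_zero, zero_add, C.b_comm]
  refine ⟨key c, ?_⟩
  have := key (ζ c)
  rwa [hl, ← map_add] at this

theorem ker_B (C : Cfg ρ b q a D X w) (Z : Zt ρ b ζ) (t : ∀ u v, b (ζ u) v = b u (ζ v)) (hP : Gp ρ a ζ P) {p : H}
    (hp : p ∈ PE ρ a D ζ P hP) {c : V} (hc : b a c = 1) (h : ρ p c + c ∈ AA ζ a) : p = 1 := by
  obtain ⟨h1, h2⟩ := q_eq C (hP.lin p hp.1) c
  have hs := AA_le_D C Z h
  have hz := AA_le_D C Z (Z.z_mem_AA h)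
  rw [C.q_D _ hs] at h1
  rw [C.q_D _ hz, t, Z.sq, map_add, ← h1, add_zero] at h2
  have h3 : ρ p c + c = 0 := by
    apply eq_zero_of C Z hc h
    · rw [C.b_comm]; exact h1.symm
    · rw [← t, C.b_comm]; exact h2.symm
  exact eq_one_of_fix C Z hP hp hc ((add_eq_zero_iff_eq_neg.1 h3).trans (ZModModule.neg_eq_self _))

theorem ker_U (C : Cfg ρ b q a D X w) (Z : Zt ρ b ζ) (hP : Gp ρ a ζ P) {p : H}
    (hp : p ∈ PE ρ a D ζ P hP) {c : V} (h : ρ p c + c ∈ AA ζ a) : b c (ρ p c + c) = 0 := by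
  obtain ⟨h1, -⟩ := q_eq C (hP.lin p hp.1) c
  rw [C.q_D _ (AA_le_D C Z h)] at h1
  exact h1.symm

theorem inv_AA (hP : Gp ρ a ζ P) {p : H} (hp : p ∈ P) {v : V} (hv : v ∈ AA ζ a) : ρ p⁻¹ v ∈ AA ζ a := by
  rw [fix_AA (hP.fix _ (P.inv_mem hp)) (hP.lin _ (P.inv_mem hp)) hv]
  exact hv

/-- type (B) : `|PE| ≤ 2 ^ 8` -/
theorem card_PE_B (C : Cfg ρ b q a D X 6) (Z : Zt ρ b ζ) (t : ∀ u v, b (ζ u) v = b u (ζ v)) (hP : Gp ρ a ζ P) :
    Nat.card (PE ρ a D ζ P hP) ≤ 2 ^ 8 := by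
  have := C.finite_V
  have := C.finite_H
  obtain ⟨c, hc⟩ := C.exists_off
  have h1 := card_le (P := PE ρ a D ζ P hP) (K := ⊥) bot_le (A := AA ζ a) (S := AP b ζ a)
    (fun p => ρ p c + c) (fun p hp α hα => add_mem (toAP C (hP.fix p hp.1) (hP.lin p hp.1) c)
      (D_le_AP C Z (AA_le_D C Z hα)))
    (fun p hp p' hp' h => by
      rw [Subgroup.mem_bot]
      have hm : p⁻¹ * p' ∈ PE ρ a D ζ P hP := mul_mem (inv_mem hp) hp'
      exact ker_B C Z t hP hm hc (hP.inv hp.1 c (fun v hv => inv_AA hP hp.1 hv) h))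
  have h2 := card_AP C Z
  rw [card_AA C Z, Subgroup.card_bot, one_mul] at h1
  norm_num at h2 ⊢
  omega

/-! ### Type (U) -/

/-- `[(F₄ a)^⊥, X₀] ≤ F₄ a` -/
theorem delta (C : Cfg ρ b q a D X w) (Z : Zt ρ b ζ) {y : H} (hy : y ∈ X) (hl : Lin ρ ζ y) {v : V}
    (hv : v ∈ AP b ζ a) : ρ y v + v ∈ AA ζ a := by
  obtain ⟨d, hd, d', hd', rfl⟩ := exists_dec C Z hv
  have h1 : ρ y (d + ζ d') + (d + ζ d') = (ρ y d + d) + ζ (ρ y d' + d') := by
    rw [map_add, hl, map_add ζ]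
    abel
  have h2 : ∀ e ∈ D, ρ y e + e ∈ AA ζ a := by
    intro e he
    rcases C.X_D y hy e he with h | h
    · rw [h, vv]; exact zero_mem _
    · rw [h, add_right_comm, vv, zero_add]; exact a_mem_AA
  rw [h1]
  exact add_mem (h2 d hd) (Z.z_mem_AA (h2 d' hd'))

/-- `y ∈ X₀` is trivial if `[c, y] ∈ F₄ a` -/
theorem eq_one_of_AA (C : Cfg ρ b q a D X w) (Z : Zt ρ b ζ) {y : H} (hy : y ∈ X) {c : V} (hc : b a c = 1)
    (h : ρ y c + c ∈ AA ζ a) : y = 1 :=
  C.X_semi y hy c hc (AA_le_D C Z h)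

/-- `PE` centralises `X₀` -/
theorem comm_X0 (C : Cfg ρ b q a D X w) (Z : Zt ρ b ζ) (hP : Gp ρ a ζ P) {p : H} (hp : p ∈ PE ρ a D ζ P hP)
    {y : H} (hy : y ∈ X) (hl : Lin ρ ζ y) : p * y = y * p := by
  obtain ⟨c, hc⟩ := C.exists_off
  have hpa := hP.fix p hp.1
  have hpl := hP.lin p hp.1
  set y' := p * y * p⁻¹ with hy'
  have hy'X : y' ∈ X := C.X_norm p hpa y hy
  have hl' : Lin ρ ζ y' := lin_mul (lin_mul hpl hl) (lin_inv hpl)
  have e1 : y' * p = p * y := by rw [hy', inv_mul_cancel_right]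
  have e2 : ρ y' (ρ p c) = ρ p (ρ y c) := by rw [← rho_mul, e1, rho_mul]
  set s := ρ p c + c with hs
  set u := ρ y c + c with hu
  have hsA : s ∈ AP b ζ a := toAP C hpa hpl c
  have huA : u ∈ AP b ζ a := toAP C (C.X_a hy) hl c
  have h1 := delta C Z hy'X hl' hsA
  have h2 := PE_AP C Z hP hp huA
  have e3 : ρ p c = c + s := by rw [hs, add_comm (ρ p c), ← add_assoc, vv, zero_add]
  have e4 : ρ y c = c + u := by rw [hu, add_comm (ρ y c), ← add_assoc, vv, zero_add]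
  -- `[c, y'] + [c, y] ∈ F₄ a`
  have h3 : (ρ y' c + c) + u = (ρ y' s + s) + (ρ p u + u) := by
    rw [e3, e4, map_add (ρ y'), map_add (ρ p), e3] at e2
    -- `ρ y' c + ρ y' s = c + s + ρ p u`
    have h4 : ρ y' c = c + s + ρ p u + ρ y' s := by
      rw [← e2, add_assoc, vv, add_zero]
    rw [h4]
    have h5 : c + s + ρ p u + ρ y' s + c + u = (c + c) + ((ρ y' s + s) + (ρ p u + u)) := by abel
    rw [h5, vv, zero_add]
  have h4 : (ρ y' c + c) + u ∈ AA ζ a := by rw [h3]; exact add_mem h1 h2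
  have h5 : ρ (y' * y) c + c ∈ AA ζ a := by
    have h6 : ρ (y' * y) c + c = ((ρ y' c + c) + u) + (ρ y' u + u) := by
      rw [rho_mul, e4, map_add]
      have h7 : ρ y' c + c + u + (ρ y' u + u) = ρ y' c + ρ y' u + c + (u + u) := by abel
      rw [h7, vv, add_zero]
    rw [h6]
    exact add_mem h4 (delta C Z hy'X hl' huA)
  have h6 := eq_one_of_AA C Z (X.mul_mem hy'X hy) hc h5
  have h7 : y' = y := by rw [eq_inv_of_mul_eq_one_left h6, C.X_inv hy]
  rw [← e1, h7]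

/-- type (U) : `[c, PE] ⊥ [c, X₀]` -/
theorem orth_U (C : Cfg ρ b q a D X w) (Z : Zt ρ b ζ) (t : ∀ u v, b (ζ u) v = b u (ζ v) + b u v)
    (hP : Gp ρ a ζ P) {p : H} (hp : p ∈ PE ρ a D ζ P hP) {y : H} (hy : y ∈ X) (hl : Lin ρ ζ y) (c : V) :
    b (ρ y c + c) (ρ p c + c) = 0 := by
  have hpa := hP.fix p hp.1
  have hpl := hP.lin p hp.1
  set s := ρ p c + c with hs
  set u := ρ y c + c with hu
  have hsA : s ∈ AP b ζ a := toAP C hpa hpl c
  have huA : u ∈ AP b ζ a := toAP C (C.X_a hy) hl c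
  have e3 : ρ p c = c + s := by rw [hs, add_comm (ρ p c), ← add_assoc, vv, zero_add]
  have e4 : ρ y c = c + u := by rw [hu, add_comm (ρ y c), ← add_assoc, vv, zero_add]
  have e1 : ρ p u + u = ρ y s + s := by
    have h := comm_X0 C Z hP hp hy hl
    have h1 : ρ p (ρ y c) = ρ y (ρ p c) := by rw [← rho_mul, ← rho_mul, h]
    rw [e3, e4, map_add (ρ p), map_add (ρ y), e3, e4] at h1
    have h2 : ρ p u + u = (c + s + ρ p u) + (c + s + u) := by
      have h3 : (c + s + ρ p u) + (c + s + u) = (ρ p u + u) + ((c + s) + (c + s)) := by abel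
      rw [h3, vv, add_zero]
    rw [h2, h1]
    have h3 : c + u + ρ y s + (c + s + u) = (ρ y s + s) + ((c + u) + (c + u)) := by abel
    rw [h3, vv, add_zero]
  have h1 := (cross C hpa hpl c (PE_AP C Z hP hp huA)).2
  have h2 := (cross C (C.X_a hy) hl c (delta C Z hy hl hsA)).2
  rw [← hs, e1] at h1
  rw [← hu] at h2
  -- `b u (ζ s) = b s (ζ u)`
  rw [h1, C.b_comm s, t, left_eq_add] at h2
  exact h2

/-- the elements of `P` with `[S, p] ≤ A` -/
def Kr (ρ : H →* (V ≃ₗ[ZMod 2] V)) (P : Subgroup H) (A S : Submodule (ZMod 2) V)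
    (hA : ∀ p ∈ P, ∀ v ∈ A, ρ p v ∈ A) : Subgroup H where
  carrier := {p | p ∈ P ∧ ∀ d ∈ S, ρ p d + d ∈ A}
  one_mem' := ⟨P.one_mem, fun d _ => by rw [rho_one, vv]; exact zero_mem _⟩
  mul_mem' := by
    rintro p r ⟨hp, hpd⟩ ⟨hr, hrd⟩
    refine ⟨P.mul_mem hp hr, fun d hd => ?_⟩
    have h1 : ρ (p * r) d + d = ρ p (ρ r d + d) + (ρ p d + d) := by
      rw [rho_mul, map_add, add_assoc, ← add_assoc (ρ p d), vv, zero_add]
    rw [h1]
    exact add_mem (hA p hp _ (hrd d hd)) (hpd d hd)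
  inv_mem' := by
    rintro p ⟨hp, hpd⟩
    refine ⟨P.inv_mem hp, fun d hd => ?_⟩
    have h2 : ρ p⁻¹ (ρ p d + d) = ρ p⁻¹ d + d := by
      rw [map_add, ← rho_mul, inv_mul_cancel, rho_one, add_comm]
    rw [← h2]
    exact hA _ (P.inv_mem hp) _ (hpd d hd)

theorem card_span_sup [Finite V] {A : Submodule (ZMod 2) V} {d : V} (hd : d ∉ A) :
    Nat.card (A ⊔ Submodule.span (ZMod 2) {d} : Submodule (ZMod 2) V) = 2 * Nat.card A := by
  let F : ZMod 2 × A → (A ⊔ Submodule.span (ZMod 2) {d} : Submodule (ZMod 2) V) := fun x =>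
    ⟨x.2 + x.1 • d, add_mem (Submodule.mem_sup_left x.2.2)
      (Submodule.mem_sup_right (Submodule.smul_mem _ _ (Submodule.mem_span_singleton_self d)))⟩
  have hF : Function.Bijective F := by
    constructor
    · rintro ⟨x, α⟩ ⟨y, β⟩ h
      have h1 : (α : V) + x • d = β + y • d := congrArg Subtype.val h
      have h2 : (x + y) • d ∈ A := by
        have h3 : (x + y) • d = (α : V) + β := by
          rw [add_smul]
          have h4 : x • d + y • d + ((α : V) + β) = (α + x • d) + (β + y • d) := by abel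
          rw [h1, vv] at h4
          exact (add_eq_zero_iff_eq_neg.1 h4).trans (ZModModule.neg_eq_self _)
        rw [h3]
        exact add_mem α.2 β.2
      have h3 : x = y := by
        rcases zmod_two (x + y) with h4 | h4
        · exact CharTwo.add_eq_zero.1 h4
        · rw [h4, one_smul] at h2
          exact absurd h2 hd
      subst h3
      exact Prod.ext rfl (Subtype.ext (add_right_cancel h1))
    · rintro ⟨v, hv⟩
      obtain ⟨α, hα, β, hβ, rfl⟩ := Submodule.mem_sup.1 hv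
      obtain ⟨x, rfl⟩ := Submodule.mem_span_singleton.1 hβ
      exact ⟨(x, ⟨α, hα⟩), rfl⟩
  rw [← Nat.card_eq_of_bijective F hF, Nat.card_prod, Nat.card_zmod]

theorem mem_or [Finite V] {A S : Submodule (ZMod 2) V} (hAS : A ≤ S) (hc : Nat.card S ≤ 2 * Nat.card A) {n v : V}
    (hn : n ∈ S) (hn' : n ∉ A) (hv : v ∈ S) : v ∈ A ∨ v + n ∈ A := by
  by_contra hcon
  push Not at hcon
  obtain ⟨h1, h2⟩ := hcon
  have h3 : n ∉ A ⊔ Submodule.span (ZMod 2) {v} := by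
    intro h
    obtain ⟨α, hα, β, hβ, h4⟩ := Submodule.mem_sup.1 h
    obtain ⟨x, rfl⟩ := Submodule.mem_span_singleton.1 hβ
    rcases zmod_two x with rfl | rfl
    · rw [zero_smul, add_zero] at h4
      exact hn' (h4 ▸ hα)
    · rw [one_smul] at h4
      apply h2
      rw [← h4, add_left_comm, vv, add_zero]
      exact hα
  have h4 := card_span_sup h1
  have h5 := card_span_sup h3
  have h6 : (A ⊔ Submodule.span (ZMod 2) {v}) ⊔ Submodule.span (ZMod 2) {n} ≤ S := by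
    refine sup_le (sup_le hAS ?_) ?_
    · rw [Submodule.span_singleton_le_iff_mem]; exact hv
    · rw [Submodule.span_singleton_le_iff_mem]; exact hn
  have h7 := Nat.card_le_card_of_injective _ (Submodule.inclusion_injective h6)
  have h8 : 0 < Nat.card A := Nat.card_pos
  omega

theorem mem_span_sup {A : Submodule (ZMod 2) V} {d v : V} (h : v ∈ A ⊔ Submodule.span (ZMod 2) {d}) :
    v ∈ A ∨ v + d ∈ A := by
  obtain ⟨α, hα, β, hβ, rfl⟩ := Submodule.mem_sup.1 h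
  obtain ⟨x, rfl⟩ := Submodule.mem_span_singleton.1 hβ
  rcases zmod_two x with rfl | rfl
  · left
    rw [zero_smul, add_zero]
    exact hα
  · right
    rw [one_smul, add_assoc, vv, add_zero]
    exact hα

/-- a 2-group acting on a section of order 4 -/
theorem index_two [Finite H] [Finite V] {P : Subgroup H} (h2 : IsPGroup 2 P) {A S : Submodule (ZMod 2) V}
    (hA : ∀ p ∈ P, ∀ v ∈ A, ρ p v ∈ A) (hS : ∀ p ∈ P, ∀ v ∈ S, ρ p v ∈ S) (hAS : A ≤ S)
    (hc : Nat.card S = 4 * Nat.card A) : Nat.card P ≤ 2 * Nat.card (Kr ρ P A S hA) := by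
  have hA0 : 0 < Nat.card A := Nat.card_pos
  obtain ⟨n₀, hn₀, hn₀'⟩ : ∃ n ∈ S, n ∉ A := by
    by_contra hcon
    push Not at hcon
    have := Nat.card_le_card_of_injective _ (Submodule.inclusion_injective (show S ≤ A from hcon))
    omega
  obtain ⟨n₁, hn₁, hn₁', hf⟩ := Kf.TwoNodes.exists_fix_mod ρ vv h2 hA hS hn₀ hn₀'
  have hf' : ∀ p ∈ P, ρ p n₁ + n₁ ∈ A := fun p hp => by
    have := hf p hp
    rwa [ZModModule.sub_eq_add] at this
  set A₂ := A ⊔ Submodule.span (ZMod 2) {n₁} with hA₂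
  have hc₂ : Nat.card A₂ = 2 * Nat.card A := card_span_sup hn₁'
  have hA₂S : A₂ ≤ S := sup_le hAS (by rw [Submodule.span_singleton_le_iff_mem]; exact hn₁)
  have hn₁A₂ : n₁ ∈ A₂ := Submodule.mem_sup_right (Submodule.mem_span_singleton_self _)
  have hinv : ∀ p ∈ P, ∀ v ∈ A₂, ρ p v ∈ A₂ := by
    intro p hp v hv
    rcases mem_span_sup hv with h | h
    · exact Submodule.mem_sup_left (hA p hp v h)
    · have h3 : ρ p v = ρ p (v + n₁) + (ρ p n₁ + n₁) + n₁ := by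
        have e : ρ p (v + n₁) + (ρ p n₁ + n₁) + n₁ = ρ p v + (ρ p n₁ + ρ p n₁) + (n₁ + n₁) := by
          rw [map_add]; abel
        rw [e, vv, vv, add_zero, add_zero]
      rw [h3]
      exact add_mem (Submodule.mem_sup_left (add_mem (hA p hp _ h) (hf' p hp))) hn₁A₂
  obtain ⟨n₂, hn₂, hn₂'⟩ : ∃ n ∈ S, n ∉ A₂ := by
    by_contra hcon
    push Not at hcon
    have := Nat.card_le_card_of_injective _ (Submodule.inclusion_injective (show S ≤ A₂ from hcon))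
    omega
  have h3 := card_le (P := P) (K := Kr ρ P A S hA) (fun p hp => hp.1) (A := A) (S := A₂) (fun p => ρ p n₂ + n₂)
    (fun p hp α hα => by
      refine add_mem ?_ (Submodule.mem_sup_left hα)
      rcases mem_or hA₂S (by omega) hn₂ hn₂' (hS p hp n₂ hn₂) with h | h
      · exfalso
        apply hn₂'
        have := hinv _ (P.inv_mem hp) _ h
        rwa [← rho_mul, inv_mul_cancel, rho_one] at this
      · exact h)
    (fun p hp p' hp' h => by
      have hr : p⁻¹ * p' ∈ P := P.mul_mem (P.inv_mem hp) hp'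
      refine ⟨hr, fun n hn => ?_⟩
      have hr2 : ρ (p⁻¹ * p') n₂ + n₂ ∈ A := by
        have h1 : ρ p⁻¹ ((ρ p n₂ + n₂) + (ρ p' n₂ + n₂)) = ρ (p⁻¹ * p') n₂ + n₂ := by
          have h2 : (ρ p n₂ + n₂) + (ρ p' n₂ + n₂) = ρ p n₂ + ρ p' n₂ + (n₂ + n₂) := by abel
          rw [h2, vv, add_zero, map_add, ← rho_mul, ← rho_mul, inv_mul_cancel, rho_one, add_comm]
        rw [← h1]
        exact hA _ (P.inv_mem hp) _ h
      have hr1 := hf' _ hr
      have key : ∀ v ∈ A₂, ρ (p⁻¹ * p') v + v ∈ A := by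
        intro v hv
        rcases mem_span_sup hv with h | h
        · exact add_mem (hA _ hr v h) h
        · have h3 : ρ (p⁻¹ * p') v + v = ρ (p⁻¹ * p') (v + n₁) + (v + n₁) + (ρ (p⁻¹ * p') n₁ + n₁) := by
            have e : ρ (p⁻¹ * p') (v + n₁) + (v + n₁) + (ρ (p⁻¹ * p') n₁ + n₁) =
                ρ (p⁻¹ * p') v + v + (ρ (p⁻¹ * p') n₁ + ρ (p⁻¹ * p') n₁) + (n₁ + n₁) := by
              rw [map_add]; abel
            rw [e, vv, vv, add_zero, add_zero]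
          rw [h3]
          exact add_mem (add_mem (hA _ hr _ h) h) hr1
      rcases mem_or hA₂S (by omega) hn₂ hn₂' hn with h | h
      · exact key n h
      · have h3 : ρ (p⁻¹ * p') n + n = ρ (p⁻¹ * p') (n + n₂) + (n + n₂) + (ρ (p⁻¹ * p') n₂ + n₂) := by
          have e : ρ (p⁻¹ * p') (n + n₂) + (n + n₂) + (ρ (p⁻¹ * p') n₂ + n₂) =
              ρ (p⁻¹ * p') n + n + (ρ (p⁻¹ * p') n₂ + ρ (p⁻¹ * p') n₂) + (n₂ + n₂) := by
            rw [map_add]; abel
          rw [e, vv, vv, add_zero, add_zero]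
        rw [h3]
        exact add_mem (key _ h) hr2)
  rw [hc₂] at h3
  have h4 : Nat.card P * Nat.card A ≤ (2 * Nat.card (Kr ρ P A S hA)) * Nat.card A := by
    calc _ ≤ _ := h3
      _ = _ := by ring
  exact Nat.le_of_mul_le_mul_right h4 hA0

/-! ### The bound for `PE` in type (U) -/

/-- `X₀ = C_X(ζ)` -/
def X0 (ρ : H →* (V ≃ₗ[ZMod 2] V)) (ζ : V →ₗ[ZMod 2] V) (X : Subgroup H) : Subgroup H where
  carrier := {x | x ∈ X ∧ Lin ρ ζ x}
  one_mem' := ⟨X.one_mem, lin_one⟩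
  mul_mem' := fun h1 h2 => ⟨X.mul_mem h1.1 h2.1, lin_mul h1.2 h2.2⟩
  inv_mem' := fun h => ⟨X.inv_mem h.1, lin_inv h.2⟩

theorem mem_X0 {x : H} : x ∈ X0 ρ ζ X ↔ x ∈ X ∧ Lin ρ ζ x := Iff.rfl

/-- `|X| ≤ 2 |X₀|` -/
theorem card_X0 (C : Cfg ρ b q a D X w) (Z : Zt ρ b ζ) : Nat.card X ≤ 2 * Nat.card (X0 ρ ζ X) := by
  have := C.finite_V
  have := C.finite_H
  have key : ∀ x ∈ X, (Lin ρ ζ x ∧ ρ x (ζ a) + ζ a = 0) ∨ (¬ Lin ρ ζ x ∧ ρ x (ζ a) + ζ a = a) := by
    intro x hx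
    by_cases hl : Lin ρ ζ x
    · left
      exact ⟨hl, by rw [hl, C.X_a hx, vv]⟩
    · right
      exact ⟨hl, by rw [Z.nonlin hl, C.X_a hx, add_right_comm, vv, zero_add]⟩
  have h1 := card_le (P := X) (K := X0 ρ ζ X) (fun x hx => hx.1) (A := ⊥)
    (S := Submodule.span (ZMod 2) {a}) (fun x => ρ x (ζ a) + ζ a)
    (fun x hx α hα => by
      rw [(Submodule.mem_bot _).1 hα, add_zero]
      rcases key x hx with ⟨-, h⟩ | ⟨-, h⟩
      · rw [h]; exact zero_mem _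
      · rw [h]; exact Submodule.mem_span_singleton_self a)
    (fun x hx y hy h => by
      refine ⟨X.mul_mem (X.inv_mem hx) hy, ?_⟩
      rw [Submodule.mem_bot] at h
      rcases key x hx with ⟨h1, h2⟩ | ⟨h1, h2⟩ <;> rcases key y hy with ⟨h3, h4⟩ | ⟨h3, h4⟩ <;> rw [h2, h4] at h
      · exact lin_mul (lin_inv h1) h3
      · rw [zero_add] at h; exact absurd h C.a_ne
      · rw [add_zero] at h; exact absurd h C.a_ne
      · rw [C.X_inv hx]; exact Z.lin_mul' h1 h3)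
  have h2 : Nat.card (Submodule.span (ZMod 2) {a}) = 2 := by
    have h3 := card_span_sup (A := (⊥ : Submodule (ZMod 2) V)) (d := a) (by rw [Submodule.mem_bot]; exact C.a_ne)
    rw [bot_sup_eq] at h3
    rw [h3]
    simp
  rw [h2] at h1
  simp only [Nat.card_unique, mul_one] at h1
  omega

/-- type (U) : `|PE| ≤ 2 ^ 5` -/
theorem card_PE_U (C : Cfg ρ b q a D X 6) (Z : Zt ρ b ζ) (t : ∀ u v, b (ζ u) v = b u (ζ v) + b u v)
    (hP : Gp ρ a ζ P) : Nat.card (PE ρ a D ζ P hP) ≤ 2 ^ 5 := by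
  have := C.finite_V
  have := C.finite_H
  obtain ⟨c, hc⟩ := C.exists_off
  set W₀ : Submodule (ZMod 2) V := AA ζ a ⊔ Submodule.span (ZMod 2) {v | ∃ y ∈ X0 ρ ζ X, ρ y c + c = v} with hW₀
  have hW : ∀ y ∈ X0 ρ ζ X, ρ y c + c ∈ W₀ := fun y hy =>
    Submodule.mem_sup_right (Submodule.subset_span ⟨y, hy, rfl⟩)
  -- `|W₀| ≥ 2 ^ 6`
  have h1 : Nat.card (X0 ρ ζ X) * Nat.card (AA ζ a) ≤ Nat.card (⊥ : Subgroup H) * Nat.card W₀ :=
    card_le (P := X0 ρ ζ X) (K := ⊥) bot_le (fun y => ρ y c + c)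
      (fun y hy α hα => add_mem (hW y hy) (Submodule.mem_sup_left hα))
      (fun y hy y' hy' h => by
        rw [Subgroup.mem_bot]
        have hm : y⁻¹ * y' ∈ X0 ρ ζ X := mul_mem (inv_mem hy) hy'
        refine eq_one_of_AA C Z hm.1 hc ?_
        have h2 : ρ (y⁻¹ * y') c + c = ρ y⁻¹ ((ρ y c + c) + (ρ y' c + c)) := by
          have h3 : (ρ y c + c) + (ρ y' c + c) = ρ y c + ρ y' c + (c + c) := by abel
          rw [h3, vv, add_zero, map_add, ← rho_mul, ← rho_mul, inv_mul_cancel, rho_one, add_comm]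
        rw [h2]
        have hy1 : y⁻¹ ∈ X0 ρ ζ X := inv_mem hy
        rw [fix_AA (C.X_a hy1.1) hy1.2 h]
        exact h)
  have h2 := card_X0 C Z
  rw [C.card_X] at h2
  rw [card_AA C Z, Subgroup.card_bot, one_mul] at h1
  have h3 := C.card_perp W₀
  rw [C.card_V] at h3
  -- `PE₁`
  set P₁ := Kr ρ (PE ρ a D ζ P hP) (AA ζ a) (Submodule.span (ZMod 2) {c})
    (fun p hp v hv => by rw [fix_AA (hP.fix p hp.1) (hP.lin p hp.1) hv]; exact hv) with hP₁
  have h4 : Nat.card P₁ ≤ 2 := by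
    have ha : a ∉ (AA ζ a ⊓ LinearMap.ker (b c) : Submodule (ZMod 2) V) := by
      rintro ⟨-, h⟩
      have h' : b c a = 0 := h
      rw [C.b_comm, hc] at h'
      exact one_ne_zero h'
    have h5 := card_span_sup ha
    have h6 : (AA ζ a ⊓ LinearMap.ker (b c)) ⊔ Submodule.span (ZMod 2) {a} ≤ AA ζ a :=
      sup_le inf_le_left (by rw [Submodule.span_singleton_le_iff_mem]; exact a_mem_AA)
    have h7 := Nat.card_le_card_of_injective _ (Submodule.inclusion_injective h6)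
    rw [h5, card_AA C Z] at h7
    have h8 := card_le (P := P₁) (K := ⊥) bot_le (A := ⊥) (S := AA ζ a ⊓ LinearMap.ker (b c))
      (fun p => ρ p c + c)
      (fun p hp α hα => by
        rw [(Submodule.mem_bot _).1 hα, add_zero]
        have h9 := hp.2 c (Submodule.mem_span_singleton_self c)
        exact ⟨h9, ker_U C Z hP hp.1 h9⟩)
      (fun p hp p' hp' h => by
        rw [Submodule.mem_bot] at h
        rw [Subgroup.mem_bot]
        have hm : p⁻¹ * p' ∈ PE ρ a D ζ P hP := mul_mem (inv_mem hp.1) hp'.1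
        refine eq_one_of_fix C Z hP hm hc ?_
        have h9 : ρ p c = ρ p' c := by
          have h10 : (ρ p c + c) + (ρ p' c + c) = ρ p c + ρ p' c + (c + c) := by abel
          rw [h10, vv, add_zero] at h
          exact (add_eq_zero_iff_eq_neg.1 h).trans (ZModModule.neg_eq_self _)
        rw [rho_mul, ← h9, ← rho_mul, inv_mul_cancel, rho_one])
    rw [Subgroup.card_bot, one_mul] at h8
    simp only [Nat.card_unique, mul_one] at h8
    omega
  have h5 := card_le (P := PE ρ a D ζ P hP) (K := P₁) (fun p hp => hp.1) (A := AA ζ a) (S := b.orthogonal W₀)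
    (fun p => ρ p c + c)
    (fun p hp α hα => by
      rw [C.mem_perp]
      intro u hu
      obtain ⟨s, hs, u', hu', rfl⟩ := Submodule.mem_sup.1 hu
      have e1 : b s (ρ p c + c + α) = 0 := by
        refine AP_perp ?_ hs
        exact add_mem (toAP C (hP.fix p hp.1) (hP.lin p hp.1) c) (D_le_AP C Z (AA_le_D C Z hα))
      have e2 : b u' (ρ p c + c + α) = 0 := by
        clear hu
        induction hu' using Submodule.span_induction with
        | mem x hx =>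
          obtain ⟨y, hy, rfl⟩ := hx
          rw [map_add, orth_U C Z t hP hp hy.1 hy.2 c, zero_add, C.b_comm]
          exact AP_perp (toAP C (C.X_a hy.1) hy.2 c) hα
        | zero => rw [map_zero]; rfl
        | add x y hx hy h1 h2 =>
          rw [LinearMap.map_add b, LinearMap.add_apply, h1, h2, add_zero]
        | smul k x hx h1 => rw [LinearMap.map_smul b, LinearMap.smul_apply, h1, smul_zero]
      rw [LinearMap.map_add b, LinearMap.add_apply, e1, e2, add_zero])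
    (fun p hp p' hp' h => by
      refine ⟨mul_mem (inv_mem hp) hp', fun d hd => ?_⟩
      obtain ⟨k, rfl⟩ := Submodule.mem_span_singleton.1 hd
      rw [map_smul, ← smul_add]
      refine Submodule.smul_mem _ _ ?_
      exact hP.inv hp.1 c (fun v hv => inv_AA hP hp.1 hv) h)
  rw [card_AA C Z] at h5
  rw [show 6 - 1 = 5 from rfl, show 2 ^ 5 = 32 from rfl] at h2
  rw [show 2 ^ (2 * 6) = 4096 from rfl] at h3
  rw [show 2 ^ 5 = 32 from rfl]
  have h6 : 64 ≤ Nat.card W₀ := by omega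
  have h7 : Nat.card (b.orthogonal W₀) ≤ 64 := by
    by_contra hcon
    have : 64 * 65 ≤ Nat.card W₀ * Nat.card (b.orthogonal W₀) := Nat.mul_le_mul h6 (by omega)
    rw [h3] at this
    omega
  have h8 : Nat.card P₁ * Nat.card (b.orthogonal W₀) ≤ 2 * 64 := Nat.mul_le_mul h4 h7
  omega

/-! ### The action on `D / F₄ a` -/

theorem beta (C : Cfg ρ b q a D X w) (Z : Zt ρ b ζ) (t : ∀ u v, b (ζ u) v = b u (ζ v)) (v : V) : b (ζ v) v = 0 := by
  have h1 : ∀ v, b (ζ (ζ v)) (ζ v) = b (ζ v) v := by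
    intro v
    rw [Z.sq, LinearMap.map_add b, LinearMap.add_apply, C.b_self, zero_add, C.b_comm]
  have h2 : ∀ u v, b (ζ (u + v)) (u + v) = b (ζ u) u + b (ζ v) v := by
    intro u v
    have e : b (ζ u) v = b (ζ v) u := by rw [t, C.b_comm]
    rw [map_add ζ, LinearMap.map_add b, LinearMap.add_apply, map_add, map_add, e]
    have := CharTwo.add_self_eq_zero (b (ζ v) u)
    calc _ = b (ζ u) u + b (ζ v) v + (b (ζ v) u + b (ζ v) u) := by ring
      _ = _ := by rw [this, add_zero]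
  have h3 := h2 (ζ v) v
  rw [← Z.sq, h1, h1, CharTwo.add_self_eq_zero] at h3
  exact h3

/-- type (U) : `q v = b (ζ v) v` -/
theorem q_eq_U (C : Cfg ρ b q a D X w) (Z : Zt ρ b ζ) (t : ∀ u v, b (ζ u) v = b u (ζ v) + b u v) (v : V) :
    q v = b (ζ v) v := by
  have hadd : ∀ u v, b (ζ (u + v)) (u + v) = b (ζ u) u + b (ζ v) v + b u v := by
    intro u v
    rw [map_add ζ, LinearMap.map_add b, LinearMap.add_apply, map_add, map_add, t u v, C.b_comm u (ζ v)]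
    have := CharTwo.add_self_eq_zero (b (ζ v) u)
    calc _ = b (ζ u) u + b (ζ v) v + b u v + (b (ζ v) u + b (ζ v) u) := by ring
      _ = _ := by rw [this, add_zero]
  have hinv : ∀ h v, b (ζ (ρ h v)) (ρ h v) = b (ζ v) v := by
    intro h v
    by_cases hl : Lin ρ ζ h
    · rw [← hl, C.b_inv]
    · have h1 : ζ (ρ h v) = ρ h (ζ v) + ρ h v := by rw [Z.nonlin hl, add_assoc, vv, add_zero]
      rw [h1, LinearMap.map_add b, LinearMap.add_apply, C.b_inv, C.b_self, add_zero]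
  let W : Submodule (ZMod 2) V :=
    { carrier := {v | q v = b (ζ v) v}
      zero_mem' := by
        show q 0 = _
        rw [C.q_zero, map_zero]
      add_mem' := fun {u v} hu hv => by
        show q (u + v) = _
        rw [C.q_add, hadd, show q u = _ from hu, show q v = _ from hv]
      smul_mem' := fun k v hv => by
        rcases zmod_two k with rfl | rfl
        · rw [zero_smul]
          show q 0 = _
          rw [C.q_zero, map_zero]
        · rwa [one_smul] }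
  have h1 : ∀ v, v ∈ W ↔ q v = b (ζ v) v := fun v => Iff.rfl
  rcases C.irr W (fun h v hv => by rw [h1] at hv ⊢; rw [C.q_inv, hinv, hv]) with h2 | h2
  · exfalso
    apply C.a_ne
    have h3 : a ∈ W := by
      rw [h1, C.q_a, C.b_D (za_mem_D C Z) C.a_mem]
    rw [h2] at h3
    exact h3
  · rw [← h1, h2]
    exact Submodule.mem_top

theorem beta_D (C : Cfg ρ b q a D X w) (Z : Zt ρ b ζ) {d : V} (hd : d ∈ D) : b (ζ d) d = 0 := by
  rcases Z.type with t | t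
  · exact beta C Z t d
  · rw [← q_eq_U C Z t, C.q_D _ hd]

theorem g_comm (C : Cfg ρ b q a D X w) (Z : Zt ρ b ζ) {d e : V} (hd : d ∈ D) (he : e ∈ D) :
    b (ζ d) e = b (ζ e) d := by
  rcases Z.type with t | t
  · rw [t, C.b_comm]
  · rw [t, C.b_D hd he, add_zero, C.b_comm]

theorem g_inv (C : Cfg ρ b q a D X w) {p : H} (hl : Lin ρ ζ p) (d e : V) :
    b (ζ (ρ p d)) (ρ p e) = b (ζ d) e := by
  rw [← hl, C.b_inv]

theorem g_AA (C : Cfg ρ b q a D X w) (Z : Zt ρ b ζ) {d α : V} (hd : d ∈ D) (hα : α ∈ AA ζ a) : b (ζ d) α = 0 := by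
  rw [C.b_comm]
  exact AP_perp (Z.z_mem_AP (D_le_AP C Z hd)) hα

theorem g_AA' (C : Cfg ρ b q a D X w) (Z : Zt ρ b ζ) {d α : V} (hα : α ∈ AA ζ a) (hd : d ∈ D) : b (ζ α) d = 0 :=
  AP_perp (D_le_AP C Z hd) (Z.z_mem_AA hα)

theorem g_rad (C : Cfg ρ b q a D X w) (Z : Zt ρ b ζ) {d : V} (hd : d ∈ D) (h : ∀ e ∈ D, b (ζ d) e = 0) :
    d ∈ AA ζ a :=
  inter C Z hd (C.perp_D fun e he => by rw [C.b_comm]; exact h e he)

/-- a vector `d₁` of `D` fixed modulo `F₄ a` -/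
structure Lv (b : LinearMap.BilinForm (ZMod 2) V) (ρ : H →* (V ≃ₗ[ZMod 2] V)) (a : V) (D : Submodule (ZMod 2) V)
    (ζ : V →ₗ[ZMod 2] V) (P : Subgroup H) (d₁ w₀ : V) : Prop where
  d_mem : d₁ ∈ D
  d_not : d₁ ∉ AA ζ a
  fix : ∀ p ∈ P, ρ p d₁ + d₁ ∈ AA ζ a
  w_mem : w₀ ∈ D
  one : b (ζ d₁) w₀ = 1

theorem exists_Lv (C : Cfg ρ b q a D X 6) (Z : Zt ρ b ζ) (hP : Gp ρ a ζ P) (h2 : IsPGroup 2 P) :
    ∃ d₁ w₀, Lv b ρ a D ζ P d₁ w₀ := by
  have := C.finite_V
  obtain ⟨f, hf, hf1⟩ : ∃ f ∈ D, f ∉ AA ζ a := by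
    by_contra hcon
    push Not at hcon
    have h1 := Nat.card_le_card_of_injective _ (Submodule.inclusion_injective (show D ≤ AA ζ a from hcon))
    rw [C.card_D, card_AA C Z] at h1
    norm_num at h1
  obtain ⟨d₁, hd, hd', hfix⟩ := Kf.TwoNodes.exists_fix_mod ρ vv h2
    (fun p hp v hv => by rw [fix_AA (hP.fix p hp) (hP.lin p hp) hv]; exact hv)
    (fun p hp v hv => C.D_inv p (hP.fix p hp) v hv) hf hf1
  have h3 : ∃ w₀ ∈ D, b (ζ d₁) w₀ ≠ 0 := by
    by_contra hcon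
    push Not at hcon
    exact hd' (g_rad C Z hd hcon)
  obtain ⟨w₀, hw, hw1⟩ := h3
  exact ⟨d₁, w₀, hd, hd', fun p hp => by rw [← ZModModule.sub_eq_add]; exact hfix p hp, hw, zmod_two_ne hw1⟩

/-- `N = D ∩ (ζ d₁)^⊥` -/
def NN (b : LinearMap.BilinForm (ZMod 2) V) (D : Submodule (ZMod 2) V) (ζ : V →ₗ[ZMod 2] V) (d₁ : V) :
    Submodule (ZMod 2) V := D ⊓ LinearMap.ker (b (ζ d₁))

theorem mem_NN {d₁ v : V} : v ∈ NN b D ζ d₁ ↔ v ∈ D ∧ b (ζ d₁) v = 0 := Iff.rfl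

/-- `A₁ = F₄ a + ⟨d₁⟩` -/
def A1 (ζ : V →ₗ[ZMod 2] V) (a d₁ : V) : Submodule (ZMod 2) V := AA ζ a ⊔ Submodule.span (ZMod 2) {d₁}

namespace Lv

variable {d₁ w₀ : V}

theorem d_mem_A1 : d₁ ∈ A1 ζ a d₁ := Submodule.mem_sup_right (Submodule.mem_span_singleton_self _)

theorem A1_cases {v : V} (hv : v ∈ A1 ζ a d₁) : v ∈ AA ζ a ∨ v + d₁ ∈ AA ζ a := mem_span_sup hv

theorem card_A1 (C : Cfg ρ b q a D X w) (Z : Zt ρ b ζ) (l : Lv b ρ a D ζ P d₁ w₀) : Nat.card (A1 ζ a d₁) = 8 := by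
  have := C.finite_V
  rw [A1, card_span_sup l.d_not, card_AA C Z]

theorem A1_le (C : Cfg ρ b q a D X w) (Z : Zt ρ b ζ) (l : Lv b ρ a D ζ P d₁ w₀) : A1 ζ a d₁ ≤ NN b D ζ d₁ := by
  refine sup_le (fun α hα => ⟨AA_le_D C Z hα, g_AA C Z l.d_mem hα⟩) ?_
  rw [Submodule.span_singleton_le_iff_mem]
  exact ⟨l.d_mem, beta_D C Z l.d_mem⟩

theorem A1_inv (hP : Gp ρ a ζ P) (l : Lv b ρ a D ζ P d₁ w₀) : ∀ p ∈ P, ∀ v ∈ A1 ζ a d₁, ρ p v ∈ A1 ζ a d₁ := by
  intro p hp v hv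
  rcases A1_cases hv with h | h
  · rw [fix_AA (hP.fix p hp) (hP.lin p hp) h]; exact hv
  · have h3 : ρ p v = ρ p (v + d₁) + (ρ p d₁ + d₁) + d₁ := by
      have e : ρ p (v + d₁) + (ρ p d₁ + d₁) + d₁ = ρ p v + (ρ p d₁ + ρ p d₁) + (d₁ + d₁) := by
        rw [map_add]; abel
      rw [e, vv, vv, add_zero, add_zero]
    rw [h3, fix_AA (hP.fix p hp) (hP.lin p hp) h]
    exact add_mem (Submodule.mem_sup_left (add_mem h (l.fix p hp))) d_mem_A1

/-- `b (ζ d₁) (ρ p v) = b (ζ d₁) v` -/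
theorem b_d (C : Cfg ρ b q a D X w) (Z : Zt ρ b ζ) (hP : Gp ρ a ζ P) (l : Lv b ρ a D ζ P d₁ w₀) {p : H}
    (hp : p ∈ P) {v : V} (hv : v ∈ D) : b (ζ d₁) (ρ p v) = b (ζ d₁) v := by
  have hpv := C.D_inv p (hP.fix p hp) v hv
  have h1 := g_inv C (hP.lin p hp) d₁ v
  have h2 : ρ p d₁ = (ρ p d₁ + d₁) + d₁ := by rw [add_assoc, vv, add_zero]
  rw [h2, map_add ζ, LinearMap.map_add b, LinearMap.add_apply, g_AA' C Z (l.fix p hp) hpv, zero_add] at h1
  exact h1

theorem NN_inv (C : Cfg ρ b q a D X w) (Z : Zt ρ b ζ) (hP : Gp ρ a ζ P) (l : Lv b ρ a D ζ P d₁ w₀) :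
    ∀ p ∈ P, ∀ v ∈ NN b D ζ d₁, ρ p v ∈ NN b D ζ d₁ := fun p hp v hv =>
  ⟨C.D_inv p (hP.fix p hp) v hv.1, by
    have := b_d C Z hP l hp hv.1
    exact this.trans hv.2⟩

theorem w_not (l : Lv b ρ a D ζ P d₁ w₀) : w₀ ∉ NN b D ζ d₁ := fun h => by
  have h1 : b (ζ d₁) w₀ = 0 := h.2
  rw [l.one] at h1
  exact one_ne_zero h1

/-- `D = N + ⟨w₀⟩` -/
theorem cases (l : Lv b ρ a D ζ P d₁ w₀) {d : V} (hd : d ∈ D) : d ∈ NN b D ζ d₁ ∨ d + w₀ ∈ NN b D ζ d₁ := by
  rcases zmod_two (b (ζ d₁) d) with h | h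
  · exact Or.inl ⟨hd, h⟩
  · refine Or.inr ⟨add_mem hd l.w_mem, ?_⟩
    show b (ζ d₁) (d + w₀) = 0
    rw [map_add, h, l.one]
    rfl

theorem card_NN (C : Cfg ρ b q a D X 6) (l : Lv b ρ a D ζ P d₁ w₀) : Nat.card (NN b D ζ d₁) = 32 := by
  have := C.finite_V
  have h1 := card_span_sup l.w_not
  have h2 : NN b D ζ d₁ ⊔ Submodule.span (ZMod 2) {w₀} = D := by
    apply le_antisymm
    · exact sup_le inf_le_left (by rw [Submodule.span_singleton_le_iff_mem]; exact l.w_mem)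
    · intro d hd
      rcases l.cases hd with h | h
      · exact Submodule.mem_sup_left h
      · have : d = (d + w₀) + w₀ := by rw [add_assoc, vv, add_zero]
        rw [this]
        exact add_mem (Submodule.mem_sup_left h) (Submodule.mem_sup_right (Submodule.mem_span_singleton_self _))
  rw [h2, C.card_D] at h1
  omega

/-- the group `P₁` -/
def P1 (hP : Gp ρ a ζ P) (l : Lv b ρ a D ζ P d₁ w₀) : Subgroup H :=
  Kr ρ P (A1 ζ a d₁) (NN b D ζ d₁) (l.A1_inv hP)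

theorem card_P1 (C : Cfg ρ b q a D X 6) (Z : Zt ρ b ζ) (hP : Gp ρ a ζ P) (h2 : IsPGroup 2 P)
    (l : Lv b ρ a D ζ P d₁ w₀) : Nat.card P ≤ 2 * Nat.card (P1 hP l) := by
  have := C.finite_V
  have := C.finite_H
  exact index_two h2 (l.A1_inv hP) (l.NN_inv C Z hP) (l.A1_le C Z) (by rw [l.card_NN C, l.card_A1 C Z])

/-- criterion for `r ∈ PE` -/
theorem to_PE (C : Cfg ρ b q a D X w) (Z : Zt ρ b ζ) (hP : Gp ρ a ζ P) (l : Lv b ρ a D ζ P d₁ w₀) {r : H}
    (hr : r ∈ P1 hP l) (hw : ρ r w₀ + w₀ ∈ AA ζ a) : r ∈ PE ρ a D ζ P hP := by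
  have hrP : r ∈ P := hr.1
  have key : ∀ n ∈ NN b D ζ d₁, ρ r n + n ∈ AA ζ a := by
    intro n hn
    rcases A1_cases (hr.2 n hn) with h | h
    · exact h
    · exfalso
      have e1 := g_inv C (hP.lin r hrP) n w₀
      have hwD : ρ r w₀ ∈ D := C.D_inv r (hP.fix r hrP) w₀ l.w_mem
      have e2 : ρ r n = n + d₁ + (ρ r n + n + d₁) := by
        have e : n + d₁ + (ρ r n + n + d₁) = ρ r n + (n + n) + (d₁ + d₁) := by abel
        rw [e, vv, vv, add_zero, add_zero]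
      have e3 : ρ r w₀ = w₀ + (ρ r w₀ + w₀) := by
        rw [add_comm (ρ r w₀), ← add_assoc, vv, zero_add]
      have hnD : n + d₁ ∈ D := add_mem hn.1 l.d_mem
      rw [e2, map_add ζ, LinearMap.map_add b, LinearMap.add_apply, g_AA' C Z h hwD, add_zero, e3, map_add,
        g_AA C Z hnD hw, add_zero, map_add ζ, LinearMap.map_add b, LinearMap.add_apply, l.one] at e1
      exact one_ne_zero (left_eq_add.1 e1.symm)
  refine ⟨hrP, fun d hd => ?_⟩
  rcases l.cases hd with h | h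
  · exact key d h
  · have h3 : ρ r d + d = ρ r (d + w₀) + (d + w₀) + (ρ r w₀ + w₀) := by
      have e : ρ r (d + w₀) + (d + w₀) + (ρ r w₀ + w₀) = ρ r d + d + (ρ r w₀ + ρ r w₀) + (w₀ + w₀) := by
        rw [map_add]; abel
      rw [e, vv, vv, add_zero, add_zero]
    rw [h3]
    exact add_mem (key _ h) hw

theorem f_mem (C : Cfg ρ b q a D X w) (Z : Zt ρ b ζ) (hP : Gp ρ a ζ P) (l : Lv b ρ a D ζ P d₁ w₀) {p : H}
    (hp : p ∈ P) : ρ p w₀ + w₀ ∈ NN b D ζ d₁ :=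
  ⟨add_mem (C.D_inv p (hP.fix p hp) _ l.w_mem) l.w_mem, by
    show b (ζ d₁) (ρ p w₀ + w₀) = 0
    rw [map_add, b_d C Z hP l hp l.w_mem, CharTwo.add_self_eq_zero]⟩

theorem inv_sum (hP : Gp ρ a ζ P) {A : Submodule (ZMod 2) V} (hA : ∀ p ∈ P, ∀ v ∈ A, ρ p v ∈ A) {p p' : H}
    (hp : p ∈ P) {c : V} (h : (ρ p c + c) + (ρ p' c + c) ∈ A) : ρ (p⁻¹ * p') c + c ∈ A :=
  hP.inv hp c (fun v hv => hA _ (P.inv_mem hp) v hv) h

/-- the general count -/
theorem count (C : Cfg ρ b q a D X 6) (Z : Zt ρ b ζ) (hP : Gp ρ a ζ P) (l : Lv b ρ a D ζ P d₁ w₀) :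
    Nat.card (P1 hP l) ≤ 8 * Nat.card (PE ρ a D ζ P hP) := by
  have := C.finite_V
  have := C.finite_H
  have h1 := card_le (P := P1 hP l) (K := PE ρ a D ζ P hP ⊓ P1 hP l) inf_le_right (A := AA ζ a) (S := NN b D ζ d₁)
    (fun p => ρ p w₀ + w₀)
    (fun p hp α hα => add_mem (l.f_mem C Z hP hp.1) (l.A1_le C Z (Submodule.mem_sup_left hα)))
    (fun p hp p' hp' h => by
      have hm : p⁻¹ * p' ∈ P1 hP l := mul_mem (inv_mem hp) hp'
      exact ⟨l.to_PE C Z hP hm (inv_sum hP (fun p hp v hv => by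
        rw [fix_AA (hP.fix p hp) (hP.lin p hp) hv]; exact hv) hp.1 h), hm⟩)
  rw [card_AA C Z, l.card_NN C] at h1
  have h2 : Nat.card (PE ρ a D ζ P hP ⊓ P1 hP l : Subgroup H) ≤ Nat.card (PE ρ a D ζ P hP) :=
    Nat.card_le_card_of_injective _ (Subgroup.inclusion_injective inf_le_left)
  omega

/-- type (B) : `κ (v) = q (ζ v)` -/
theorem kap (C : Cfg ρ b q a D X w) (Z : Zt ρ b ζ) (t : ∀ u v, b (ζ u) v = b u (ζ v)) (u v : V)
    (hu : u ∈ D) (hv : v ∈ D) : q (ζ (u + v)) = q (ζ u) + q (ζ v) + b (ζ u) v := by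
  rw [map_add, C.q_add, t u (ζ v), Z.sq, map_add, C.b_D hu hv, add_zero, ← t]

theorem kap_AA (C : Cfg ρ b q a D X w) (Z : Zt ρ b ζ) (t : ∀ u v, b (ζ u) v = b u (ζ v)) {u α : V}
    (hu : u ∈ D) (hα : α ∈ AA ζ a) : q (ζ (u + α)) = q (ζ u) := by
  rw [kap C Z t u α hu (AA_le_D C Z hα), g_AA C Z hu hα, add_zero, C.q_D _ (AA_le_D C Z (Z.z_mem_AA hα)), add_zero]

theorem kap_inv (C : Cfg ρ b q a D X w) {p : H} (hl : Lin ρ ζ p) (v : V) : q (ζ (ρ p v)) = q (ζ v) := by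
  rw [← hl, C.q_inv]

/-- type (B) : `κ ([v, p]) = g (v, [v, p])` -/
theorem kap_comm (C : Cfg ρ b q a D X w) (Z : Zt ρ b ζ) (t : ∀ u v, b (ζ u) v = b u (ζ v)) (hP : Gp ρ a ζ P)
    {p : H} (hp : p ∈ P) {v : V} (hv : v ∈ D) : q (ζ (ρ p v + v)) = b (ζ v) (ρ p v + v) := by
  have hs : ρ p v + v ∈ D := add_mem (C.D_inv p (hP.fix p hp) v hv) hv
  have h1 := kap_inv C (hP.lin p hp) v
  have h2 : ρ p v = v + (ρ p v + v) := by rw [add_comm (ρ p v), ← add_assoc, vv, zero_add]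
  rw [h2, kap C Z t _ _ hv hs, add_assoc, add_eq_left] at h1
  exact CharTwo.add_eq_zero.1 h1

/-- type (B), `κ (d₁) = 0` -/
theorem count_B0 (C : Cfg ρ b q a D X 6) (Z : Zt ρ b ζ) (t : ∀ u v, b (ζ u) v = b u (ζ v)) (hP : Gp ρ a ζ P)
    (l : Lv b ρ a D ζ P d₁ w₀) (h0 : q (ζ d₁) = 0) :
    Nat.card (P1 hP l) ≤ 4 * Nat.card (PE ρ a D ζ P hP) := by
  have := C.finite_V
  have := C.finite_H
  have h1 := card_le (P := P1 hP l) (K := PE ρ a D ζ P hP ⊓ P1 hP l) inf_le_right (A := A1 ζ a d₁)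
    (S := NN b D ζ d₁) (fun p => ρ p w₀ + w₀)
    (fun p hp α hα => add_mem (l.f_mem C Z hP hp.1) (l.A1_le C Z hα))
    (fun p hp p' hp' h => by
      have hm : p⁻¹ * p' ∈ P1 hP l := mul_mem (inv_mem hp) hp'
      refine ⟨l.to_PE C Z hP hm ?_, hm⟩
      have h2 := inv_sum hP (l.A1_inv hP) hp.1 h
      have h3 := kap_comm C Z t hP hm.1 l.w_mem
      rcases A1_cases h2 with h4 | h4
      · exact h4
      · exfalso
        set s := ρ (p⁻¹ * p') w₀ + w₀ with hs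
        have e1 : s = d₁ + (s + d₁) := by rw [add_comm s, ← add_assoc, vv, zero_add]
        rw [e1, kap_AA C Z t l.d_mem h4, h0, map_add, g_AA C Z l.w_mem h4, add_zero, g_comm C Z l.w_mem l.d_mem,
          l.one] at h3
        exact zero_ne_one h3)
  rw [l.card_A1 C Z, l.card_NN C] at h1
  have h2 : Nat.card (PE ρ a D ζ P hP ⊓ P1 hP l : Subgroup H) ≤ Nat.card (PE ρ a D ζ P hP) :=
    Nat.card_le_card_of_injective _ (Subgroup.inclusion_injective inf_le_left)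
  omega

/-- type (B), `κ (d₁) = 1` -/
theorem count_B1 (C : Cfg ρ b q a D X 6) (Z : Zt ρ b ζ) (t : ∀ u v, b (ζ u) v = b u (ζ v)) (hP : Gp ρ a ζ P)
    (l : Lv b ρ a D ζ P d₁ w₀) (h0 : q (ζ d₁) = 1) :
    Nat.card (P1 hP l) ≤ 2 * Nat.card (PE ρ a D ζ P hP) := by
  have := C.finite_V
  have := C.finite_H
  have hN : ∀ p ∈ P1 hP l, ∀ n ∈ NN b D ζ d₁, ρ p n + n ∈ AA ζ a := by
    intro p hp n hn
    rcases A1_cases (hp.2 n hn) with h4 | h4
    · exact h4
    · exfalso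
      have h3 := kap_comm C Z t hP hp.1 hn.1
      set s := ρ p n + n with hs
      have e1 : s = d₁ + (s + d₁) := by rw [add_comm s, ← add_assoc, vv, zero_add]
      have h5 : b (ζ d₁) n = 0 := hn.2
      rw [e1, kap_AA C Z t l.d_mem h4, h0, map_add, g_AA C Z hn.1 h4, add_zero, g_comm C Z hn.1 l.d_mem, h5] at h3
      exact one_ne_zero h3
  have hf : ∀ p ∈ P1 hP l, ρ p w₀ + w₀ ∈ A1 ζ a d₁ := by
    intro p hp
    have hpw : ρ p w₀ ∈ D := C.D_inv p (hP.fix p hp.1) _ l.w_mem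
    set f := ρ p w₀ + w₀ with hf
    have hfD : f ∈ D := add_mem hpw l.w_mem
    have e3 : ρ p w₀ = w₀ + f := by rw [hf, add_comm (ρ p w₀), ← add_assoc, vv, zero_add]
    have h1 : ∀ n ∈ NN b D ζ d₁, b (ζ n) f = 0 := by
      intro n hn
      have e1 := g_inv C (hP.lin p hp.1) n w₀
      have e2 : ρ p n = n + (ρ p n + n) := by rw [add_comm (ρ p n), ← add_assoc, vv, zero_add]
      rw [e2, map_add ζ, LinearMap.map_add b, LinearMap.add_apply, g_AA' C Z (hN p hp n hn) hpw, add_zero, e3,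
        map_add, add_eq_left] at e1
      exact e1
    rcases zmod_two (b (ζ w₀) f) with h2 | h2
    · refine Submodule.mem_sup_left (g_rad C Z hfD fun e he => ?_)
      rw [g_comm C Z hfD he]
      rcases l.cases he with h3 | h3
      · exact h1 e h3
      · have h4 := h1 _ h3
        rwa [map_add ζ, LinearMap.map_add b, LinearMap.add_apply, h2, add_zero] at h4
    · have hfd : f + d₁ ∈ D := add_mem hfD l.d_mem
      have h5 : f + d₁ ∈ AA ζ a := by
        refine g_rad C Z hfd fun e he => ?_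
        rw [g_comm C Z hfd he]
        have h6 : b (ζ w₀) (f + d₁) = 0 := by
          rw [map_add, h2, g_comm C Z l.w_mem l.d_mem, l.one]
          rfl
        have h7 : ∀ n ∈ NN b D ζ d₁, b (ζ n) (f + d₁) = 0 := by
          intro n hn
          have h8 : b (ζ d₁) n = 0 := hn.2
          rw [map_add, h1 n hn, g_comm C Z hn.1 l.d_mem, h8, add_zero]
        rcases l.cases he with h3 | h3
        · exact h7 e h3
        · have h4 := h7 _ h3
          rwa [map_add ζ, LinearMap.map_add b, LinearMap.add_apply, h6, add_zero] at h4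
      have e4 : f = (f + d₁) + d₁ := by rw [add_assoc, vv, add_zero]
      rw [e4]
      exact add_mem (Submodule.mem_sup_left h5) d_mem_A1
  have h1 := card_le (P := P1 hP l) (K := PE ρ a D ζ P hP ⊓ P1 hP l) inf_le_right (A := AA ζ a)
    (S := A1 ζ a d₁) (fun p => ρ p w₀ + w₀)
    (fun p hp α hα => add_mem (hf p hp) (Submodule.mem_sup_left hα))
    (fun p hp p' hp' h => by
      have hm : p⁻¹ * p' ∈ P1 hP l := mul_mem (inv_mem hp) hp'
      exact ⟨l.to_PE C Z hP hm (inv_sum hP (fun p hp v hv => by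
        rw [fix_AA (hP.fix p hp) (hP.lin p hp) hv]; exact hv) hp.1 h), hm⟩)
  rw [card_AA C Z, l.card_A1 C Z] at h1
  have h2 : Nat.card (PE ρ a D ζ P hP ⊓ P1 hP l : Subgroup H) ≤ Nat.card (PE ρ a D ζ P hP) :=
    Nat.card_le_card_of_injective _ (Subgroup.inclusion_injective inf_le_left)
  omega

end Lv

/-- **type (U) : `|P| ≤ 2 ^ 9`** -/
theorem bound_U (C : Cfg ρ b q a D X 6) (Z : Zt ρ b ζ) (t : ∀ u v, b (ζ u) v = b u (ζ v) + b u v)
    (hP : Gp ρ a ζ P) (h2 : IsPGroup 2 P) : Nat.card P ≤ 2 ^ 9 := by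
  obtain ⟨d₁, w₀, l⟩ := exists_Lv C Z hP h2
  have h3 := l.card_P1 C Z hP h2
  have h4 := l.count C Z hP
  have h5 := card_PE_U C Z t hP
  norm_num at h5 ⊢
  omega

/-- **type (B) : `|P| ≤ 2 ^ 11`** -/
theorem bound_B (C : Cfg ρ b q a D X 6) (Z : Zt ρ b ζ) (t : ∀ u v, b (ζ u) v = b u (ζ v))
    (hP : Gp ρ a ζ P) (h2 : IsPGroup 2 P) : Nat.card P ≤ 2 ^ 11 := by
  obtain ⟨d₁, w₀, l⟩ := exists_Lv C Z hP h2
  have h3 := l.card_P1 C Z hP h2
  have h5 := card_PE_B C Z t hP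
  norm_num at h5 ⊢
  rcases zmod_two (q (ζ d₁)) with h | h
  · have h4 := l.count_B0 C Z t hP h
    omega
  · have h4 := l.count_B1 C Z t hP h
    omega

end Cfsg.Agent.Omega.EH3.ESix.Bound
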