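import Cfsg.Agent.OddHalf.Orders.PSL
import Cfsg.Agent.OddHalf.Orders.PSpFi23
import Cfsg.Agent.S0280
import Cfsg.Agent.S0293
import Cfsg.Agent.S0294
import Cfsg.Agent.S1059
import Cfsg.Agent.S1062
import Cfsg.Agent.S1063
import Cfsg.Agent.S1064
import Cfsg.Agent.S1065
import Cfsg.Agent.S1066
import Cfsg.Agent.S1067
import Cfsg.Agent.S1068
import Cfsg.Prelude.Def_LieTypeChar

/-!
# EH3, `End_L(V) = F₄`, `w = 6`: the orders (helper576)

`small` : a group `K` of Lie type in characteristic 2 with `2^12 ∤ |K|` is `L₂(q)`, `L₃(2), L₃(4), L₃(8)`,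
`L₄(2)`, `L₅(2)`, `Sp₄(4)`, `Sp₆(2)`, `U₃(4)`, `U₃(8)`, `U₄(2)`, `U₅(2)` or `Sz(q)`.
-/

set_option autoImplicit false

namespace Cfsg.Agent.Omega.EH3.ESix.Ord

open Cfsg Cfsg.Agent.OddHalf.Orders

/-! ### divisibility -/

theorem dvd_of {e d c : ℕ} (hd : Odd d) (h : 2 ^ e ∣ d * c) : 2 ^ e ∣ c :=
  Nat.Coprime.dvd_of_dvd_mul_left (Nat.Coprime.pow_left _ (Nat.coprime_two_left.2 hd)) h

theorem exists_pow {F : Type*} [Field F] [Fintype F] [CharP F 2] : ∃ f : ℕ, 1 ≤ f ∧ Fintype.card F = 2 ^ f := by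
  obtain ⟨n, -, hn⟩ := FiniteField.card F 2
  exact ⟨n, n.2, hn⟩

theorem two_pow_dvd {e f N : ℕ} (h : e ≤ f * N) : 2 ^ e ∣ (2 ^ f) ^ N := by
  rw [← pow_mul]
  exact pow_dvd_pow _ h

theorem odd_sub {f : ℕ} (hf : 1 ≤ f) : Odd (2 ^ f - 1) := by
  have h1 : 1 ≤ 2 ^ f := Nat.one_le_two_pow
  obtain ⟨g, rfl⟩ := Nat.exists_eq_add_of_le hf
  rw [pow_add, pow_one] at *
  exact ⟨2 ^ g - 1, by omega⟩

theorem odd_add {f : ℕ} (hf : 1 ≤ f) : Odd (2 ^ f + 1) := by
  obtain ⟨g, rfl⟩ := Nat.exists_eq_add_of_le hf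
  rw [pow_add, pow_one]
  exact ⟨2 ^ g, by omega⟩

theorem odd_gcd {a b : ℕ} (h : Odd b) : Odd (Nat.gcd a b) := Odd.of_dvd_nat h (Nat.gcd_dvd_right _ _)

theorem odd_gcd' {a b : ℕ} (h : Odd a) : Odd (Nat.gcd a b) := Odd.of_dvd_nat h (Nat.gcd_dvd_left _ _)

/-! ### linear groups -/

theorem psl {F : Type*} [Field F] [Fintype F] {f n e : ℕ} (hF : Fintype.card F = 2 ^ f) (hf : 1 ≤ f) (hn : 2 ≤ n)
    (he : e ≤ f * (n * (n - 1) / 2)) : 2 ^ e ∣ Nat.card (Matrix.ProjectiveSpecialLinearGroup (Fin n) F) := by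
  have h := Cfsg.Agent.S0243.result (F := F) hF n hn
  rw [← mul_assoc] at h
  refine dvd_of (d := Nat.gcd n (2 ^ f - 1) * (2 ^ f - 1)) ((odd_gcd (odd_sub hf)).mul (odd_sub hf)) ?_
  rw [h, Fin.prod_univ_eq_prod_range (fun i => (2 ^ f) ^ n - (2 ^ f) ^ i) n]
  refine (two_pow_dvd he).trans ?_
  rw [← Finset.sum_range_id, ← Finset.prod_pow_eq_pow_sum]
  refine Finset.prod_dvd_prod_of_dvd _ _ fun i hi => ?_
  rw [Finset.mem_range] at hi
  exact Nat.dvd_sub (pow_dvd_pow _ hi.le) dvd_rfl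

/-! ### symplectic groups -/

theorem psp {F : Type*} [Field F] [Fintype F] {f m e : ℕ} (hF : Fintype.card F = 2 ^ f) (hf : 1 ≤ f) (hm : 1 ≤ m)
    (he : e ≤ f * m ^ 2) : 2 ^ e ∣ Nat.card (PSp m F) := by
  have h := card_psp (F := F) m hm
  rw [hF] at h
  refine dvd_of (d := spDen (2 ^ f)) (odd_gcd (odd_sub hf)) ?_
  rw [h]
  exact (two_pow_dvd he).trans (Dvd.intro _ rfl)

/-! ### unitary groups -/

theorem psu {F : Type*} [Field F] [Fintype F] {f n e : ℕ} (hF : Fintype.card F = (2 ^ f) ^ 2) (hf : 1 ≤ f)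
    (hn : 2 ≤ n) (he : e ≤ f * (n * (n - 1) / 2)) : 2 ^ e ∣ Nat.card (PSU n F (2 ^ f)) := by
  have h := Cfsg.Agent.S0280.result (F := F) hF n hn
  rw [← mul_assoc] at h
  refine dvd_of (d := Nat.gcd n (2 ^ f + 1) * (2 ^ f + 1)) ((odd_gcd (odd_add hf)).mul (odd_add hf)) ?_
  rw [h]
  exact (two_pow_dvd he).trans (Dvd.intro _ rfl)

/-! ### orthogonal groups -/

theorem four_le {m : ℕ} (hm : 4 ≤ m) : 12 ≤ m * (m - 1) :=
  (Nat.mul_le_mul hm (show 3 ≤ m - 1 by omega) : 4 * 3 ≤ m * (m - 1))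

theorem plus {F : Type*} [Field F] [Fintype F] {f m : ℕ} (hF : Fintype.card F = 2 ^ f) (hf : 1 ≤ f) (hm : 4 ≤ m) :
    2 ^ 12 ∣ Nat.card (POmega F (quadFormPlus m F)) := by
  have h := Cfsg.Agent.S0293.result (F := F) hF m hm
  refine dvd_of (d := Nat.gcd 4 ((2 ^ f) ^ m - 1)) (odd_gcd ?_) ?_
  · rw [← pow_mul]
    exact odd_sub (Nat.mul_pos hf (by omega))
  · rw [h, mul_assoc]
    exact (two_pow_dvd ((four_le hm).trans (Nat.le_mul_of_pos_left _ hf))).trans (Dvd.intro _ rfl)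

theorem minus {F : Type*} [Field F] [Fintype F] {f m : ℕ} (hF : Fintype.card F = 2 ^ f) (hf : 1 ≤ f) (hm : 4 ≤ m)
    (a b : F) (hab : ∀ z₁ z₂ : F, z₁ ^ 2 + a * z₁ * z₂ + b * z₂ ^ 2 = 0 → z₁ = 0 ∧ z₂ = 0) :
    2 ^ 12 ∣ Nat.card (POmega F (quadFormMinus (m - 1) F a b)) := by
  have h := Cfsg.Agent.S0294.result (F := F) hF m hm a b hab
  refine dvd_of (d := Nat.gcd 4 ((2 ^ f) ^ m + 1)) (odd_gcd ?_) ?_
  · rw [← pow_mul]
    exact odd_add (Nat.mul_pos hf (by omega))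
  · rw [h, mul_assoc]
    exact (two_pow_dvd ((four_le hm).trans (Nat.le_mul_of_pos_left _ hf))).trans (Dvd.intro _ rfl)

/-! ### exceptional groups -/

theorem pow_le {q e N : ℕ} (hq : 2 ∣ q) (he : e ≤ N) : 2 ^ e ∣ q ^ N :=
  (pow_dvd_pow _ he).trans (pow_dvd_pow_of_dvd hq _)

theorem exc {F : Type} [Field F] [Fintype F] [CharP F 2] {K : Type*} [Group K]
    (h : (3 ≤ Fintype.card F ∧ Nonempty (K ≃* Lie.chevG2.group F)) ∨ Nonempty (K ≃* Lie.chevF4.group F) ∨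
      Nonempty (K ≃* Lie.chevE6.group F) ∨ Nonempty (K ≃* Lie.chevE7.group F) ∨ Nonempty (K ≃* Lie.chevE8.group F)) :
    2 ^ 12 ∣ Nat.card K := by
  obtain ⟨f, hf, hF⟩ := exists_pow (F := F)
  have h2 : 2 ∣ 2 ^ f := dvd_pow_self _ (by omega)
  rcases h with ⟨h3, ⟨e⟩⟩ | ⟨⟨e⟩⟩ | ⟨⟨e⟩⟩ | ⟨⟨e⟩⟩ | ⟨⟨e⟩⟩
  · rw [Nat.card_congr e.toEquiv, Cfsg.Agent.S1059.result hF, mul_assoc]
    have hf2 : 2 ≤ f := by
      by_contra hlt
      have : f = 1 := by omega
      rw [hF, this] at h3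
      norm_num at h3
    exact (two_pow_dvd (show 12 ≤ f * 6 by omega)).trans (Dvd.intro _ rfl)
  · rw [Nat.card_congr e.toEquiv, Cfsg.Agent.S1062.result hF]
    exact (pow_le h2 (show 12 ≤ 24 by norm_num)).trans (by simp only [mul_assoc]; exact dvd_mul_right _ _)
  · have h := Cfsg.Agent.S1063.result hF
    rw [Nat.card_congr e.toEquiv]
    refine dvd_of (d := Nat.gcd 3 (2 ^ f - 1)) (odd_gcd (odd_sub hf)) ?_
    rw [h]
    exact (pow_le h2 (show 12 ≤ 36 by norm_num)).trans (by simp only [mul_assoc]; exact dvd_mul_right _ _)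
  · have h := Cfsg.Agent.S1064.result hF
    rw [Nat.card_congr e.toEquiv]
    refine dvd_of (d := Nat.gcd 2 (2 ^ f - 1)) (odd_gcd (odd_sub hf)) ?_
    rw [h]
    exact (pow_le h2 (show 12 ≤ 63 by norm_num)).trans (by simp only [mul_assoc]; exact dvd_mul_right _ _)
  · rw [Nat.card_congr e.toEquiv, Cfsg.Agent.S1065.result hF]
    exact (pow_le h2 (show 12 ≤ 120 by norm_num)).trans (by simp only [mul_assoc]; exact dvd_mul_right _ _)

theorem two_dvd_of {K : Type*} [Field K] [Fintype K] [CharP K 2] {q n : ℕ} (h : Fintype.card K = q ^ n) : 2 ∣ q := by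
  obtain ⟨f, hf, hF⟩ := exists_pow (F := K)
  refine Nat.prime_two.dvd_of_dvd_pow (n := n) ?_
  rw [← h, hF]
  exact dvd_pow_self _ (by omega)

theorem twisted {F : Type} [Field F] [Fintype F] [CharP F 2] {K : Type*} [Group K] {q : ℕ} (hq : IsPrimePow q)
    (h : (Fintype.card F = q ^ 2 ∧ Nonempty (K ≃* Lie.twistedE6 F q)) ∨
      (Fintype.card F = q ^ 3 ∧ Nonempty (K ≃* Lie.twistedD4 F q))) : 2 ^ 12 ∣ Nat.card K := by
  rcases h with ⟨h3, ⟨e⟩⟩ | ⟨h3, ⟨e⟩⟩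
  · have h2 := two_dvd_of h3
    have h := Cfsg.Agent.S1066.result hq h3
    rw [Nat.card_congr e.toEquiv]
    refine dvd_of (d := Nat.gcd 3 (q + 1)) (odd_gcd ?_) ?_
    · exact Even.add_one (even_iff_two_dvd.2 h2)
    · rw [h]
      exact (pow_le h2 (show 12 ≤ 36 by norm_num)).trans (by simp only [mul_assoc]; exact dvd_mul_right _ _)
  · have h2 := two_dvd_of h3
    rw [Nat.card_congr e.toEquiv, Cfsg.Agent.S1067.result hq h3]
    exact (pow_le h2 (show 12 ≤ 12 by norm_num)).trans (by simp only [mul_assoc]; exact dvd_mul_right _ _)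

/-! ### the table -/

/-- the groups of Lie type in characteristic 2 of order not divisible by `2^12` -/
def Small (K : Type*) [Group K] : Prop :=
  (∃ (F : Type) (_ : Field F) (_ : Fintype F) (_ : CharP F 2), 4 ≤ Fintype.card F ∧
    Nonempty (K ≃* Matrix.ProjectiveSpecialLinearGroup (Fin 2) F)) ∨
  (∃ (F : Type) (_ : Field F) (_ : Fintype F) (_ : CharP F 2),
    (Fintype.card F = 2 ∨ Fintype.card F = 4 ∨ Fintype.card F = 8) ∧
    Nonempty (K ≃* Matrix.ProjectiveSpecialLinearGroup (Fin 3) F)) ∨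
  (∃ (F : Type) (_ : Field F) (_ : Fintype F) (_ : CharP F 2), Fintype.card F = 2 ∧
    (Nonempty (K ≃* Matrix.ProjectiveSpecialLinearGroup (Fin 4) F) ∨
      Nonempty (K ≃* Matrix.ProjectiveSpecialLinearGroup (Fin 5) F) ∨ Nonempty (K ≃* PSp 3 F))) ∨
  (∃ (F : Type) (_ : Field F) (_ : Fintype F) (_ : CharP F 2), Fintype.card F = 4 ∧
    (Nonempty (K ≃* PSp 2 F) ∨ Nonempty (K ≃* PSU 4 F 2) ∨ Nonempty (K ≃* PSU 5 F 2))) ∨
  (∃ (F : Type) (_ : Field F) (_ : Fintype F) (_ : CharP F 2) (q : ℕ), Fintype.card F = q ^ 2 ∧ (q = 4 ∨ q = 8) ∧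
    Nonempty (K ≃* PSU 3 F q)) ∨
  Lie.IsoSuzuki K

theorem small_psl {F : Type} [Field F] [Fintype F] [CharP F 2] {K : Type*} [Group K] {n : ℕ} (hn : 2 ≤ n)
    (h4 : n = 2 → 4 ≤ Fintype.card F) (e : K ≃* Matrix.ProjectiveSpecialLinearGroup (Fin n) F) :
    2 ^ 12 ∣ Nat.card K ∨ Small K := by
  obtain ⟨f, hf, hF⟩ := exists_pow (F := F)
  by_cases h12 : 12 ≤ f * (n * (n - 1) / 2)
  · left
    rw [Nat.card_congr e.toEquiv]
    exact psl hF hf hn h12
  · right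
    have hn6 : n < 6 := by
      by_contra hlt
      have h1 : 6 * 5 ≤ n * (n - 1) := Nat.mul_le_mul (by omega) (by omega)
      have h2 : 15 ≤ n * (n - 1) / 2 := by omega
      have h3 : 1 * 15 ≤ f * (n * (n - 1) / 2) := Nat.mul_le_mul hf h2
      omega
    interval_cases n
    · exact Or.inl ⟨F, inferInstance, inferInstance, inferInstance, h4 rfl, ⟨e⟩⟩
    · refine Or.inr (Or.inl ⟨F, inferInstance, inferInstance, inferInstance, ?_, ⟨e⟩⟩)
      have : f < 4 := by omega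
      interval_cases f <;> simp_all
    · have : f = 1 := by omega
      subst this
      exact Or.inr (Or.inr (Or.inl ⟨F, inferInstance, inferInstance, inferInstance, hF, Or.inl ⟨e⟩⟩))
    · have : f = 1 := by omega
      subst this
      exact Or.inr (Or.inr (Or.inl ⟨F, inferInstance, inferInstance, inferInstance, hF, Or.inr (Or.inl ⟨e⟩)⟩))

theorem small_psp {F : Type} [Field F] [Fintype F] [CharP F 2] {K : Type*} [Group K] {m : ℕ} (hm : 2 ≤ m)
    (h4 : m = 2 → 3 ≤ Fintype.card F) (e : K ≃* PSp m F) :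
    2 ^ 12 ∣ Nat.card K ∨ Small K := by
  obtain ⟨f, hf, hF⟩ := exists_pow (F := F)
  by_cases h12 : 12 ≤ f * m ^ 2
  · left
    rw [Nat.card_congr e.toEquiv]
    exact psp hF hf (by omega) h12
  · right
    have hm4 : m < 4 := by
      by_contra hlt
      have h1 : 4 ^ 2 ≤ m ^ 2 := Nat.pow_le_pow_left (by omega) 2
      have h3 : 1 * 4 ^ 2 ≤ f * m ^ 2 := Nat.mul_le_mul hf h1
      omega
    interval_cases m
    · have h3 := h4 rfl
      have : f < 3 := by omega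
      interval_cases f
      · rw [hF] at h3
        norm_num at h3
      · exact Or.inr (Or.inr (Or.inr (Or.inl ⟨F, inferInstance, inferInstance, inferInstance, hF, Or.inl ⟨e⟩⟩)))
    · have : f = 1 := by omega
      subst this
      exact Or.inr (Or.inr (Or.inl ⟨F, inferInstance, inferInstance, inferInstance, hF, Or.inr (Or.inr ⟨e⟩)⟩))

theorem small_psu {F : Type} [Field F] [Fintype F] [CharP F 2] {K : Type*} [Group K] {n q : ℕ}
    (hq : Fintype.card F = q ^ 2) (hn : 3 ≤ n) (h3 : ¬ (n = 3 ∧ q = 2)) (e : K ≃* PSU n F q) :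
    2 ^ 12 ∣ Nat.card K ∨ Small K := by
  obtain ⟨g, hg, hG⟩ := exists_pow (F := F)
  obtain ⟨f, hf, rfl⟩ : ∃ f, 1 ≤ f ∧ q = 2 ^ f := by
    have h1 : q ^ 2 = 2 ^ g := by rw [← hq, hG]
    obtain ⟨f, -, hf⟩ := (Nat.dvd_prime_pow Nat.prime_two).1 (show q ∣ 2 ^ g by rw [← h1]; exact dvd_pow_self _ two_ne_zero)
    refine ⟨f, ?_, hf⟩
    rcases Nat.eq_zero_or_pos f with h0 | h0
    · subst h0
      rw [hf] at h1
      have : 2 ^ 1 ≤ 2 ^ g := Nat.pow_le_pow_right (by norm_num) hg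
      norm_num at h1 this
      omega
    · exact h0
  by_cases h12 : 12 ≤ f * (n * (n - 1) / 2)
  · left
    rw [Nat.card_congr e.toEquiv]
    exact psu hq hf (by omega) h12
  · right
    have hn6 : n < 6 := by
      by_contra hlt
      have h1 : 6 * 5 ≤ n * (n - 1) := Nat.mul_le_mul (by omega) (by omega)
      have h2 : 15 ≤ n * (n - 1) / 2 := by omega
      have h3 : 1 * 15 ≤ f * (n * (n - 1) / 2) := Nat.mul_le_mul hf h2
      omega
    interval_cases n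
    · refine Or.inr (Or.inr (Or.inr (Or.inr (Or.inl
        ⟨F, inferInstance, inferInstance, inferInstance, 2 ^ f, hq, ?_, ⟨e⟩⟩))))
      have : f < 4 := by omega
      interval_cases f <;> simp_all
    · have : f = 1 := by omega
      subst this
      exact Or.inr (Or.inr (Or.inr (Or.inl ⟨F, inferInstance, inferInstance, inferInstance, by rw [hq]; norm_num,
        Or.inr (Or.inl ⟨e⟩)⟩)))
    · have : f = 1 := by omega
      subst this
      exact Or.inr (Or.inr (Or.inr (Or.inl ⟨F, inferInstance, inferInstance, inferInstance, by rw [hq]; norm_num,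
        Or.inr (Or.inr ⟨e⟩)⟩)))

/-- **The table.** -/
theorem small {K : Type*} [Group K] (h : IsLieTypeChar 2 K) : 2 ^ 12 ∣ Nat.card K ∨ Lie.Iso2F4 K ∨ Small K := by
  rcases h with h | h | h | h | h | h | h | h | h | h | h
  · obtain ⟨F, _, _, _, n, hn, h4, ⟨e⟩⟩ := h
    exact (small_psl hn h4 e).imp_right Or.inr
  · obtain ⟨F, _, _, _, m, hm, h4, ⟨e⟩⟩ := h
    exact (small_psp hm h4 e).imp_right Or.inr
  · obtain ⟨F, _, _, _, n, q, hq, hn, h3, ⟨e⟩⟩ := h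
    exact (small_psu hq hn h3 e).imp_right Or.inr
  · obtain ⟨F, _, _, _, m, -, ho, -⟩ := h
    exfalso
    obtain ⟨f, hf, hF⟩ := exists_pow (F := F)
    rw [hF] at ho
    exact (Nat.not_odd_iff_even.2 (even_iff_two_dvd.2 (dvd_pow_self _ (by omega)))) ho
  · obtain ⟨F, _, _, _, m, hm, ⟨e⟩⟩ := h
    left
    obtain ⟨f, hf, hF⟩ := exists_pow (F := F)
    rw [Nat.card_congr e.toEquiv]
    exact plus hF hf hm
  · obtain ⟨F, _, _, _, m, a, b, hm, hab, ⟨e⟩⟩ := h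
    left
    obtain ⟨f, hf, hF⟩ := exists_pow (F := F)
    rw [Nat.card_congr e.toEquiv]
    exact minus hF hf hm a b hab
  · obtain ⟨F, _, _, _, h⟩ := h
    exact Or.inl (exc h)
  · obtain ⟨F, _, _, _, q, hq, h⟩ := h
    exact Or.inl (twisted hq h)
  · exact Or.inr (Or.inr (Or.inr (Or.inr (Or.inr (Or.inr (Or.inr h.2))))))
  · exact Or.inr (Or.inl h.2)
  · exact absurd h.1 (by norm_num)

/-! ### three primes -/

theorem psl_five {F : Type} [Field F] [Fintype F] (hF : Fintype.card F = 2) :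
    2 ^ 10 ∣ Nat.card (Matrix.ProjectiveSpecialLinearGroup (Fin 5) F) ∧
      31 ∣ Nat.card (Matrix.ProjectiveSpecialLinearGroup (Fin 5) F) := by
  have h := Cfsg.Agent.S0243.result (F := F) hF 5 (by norm_num)
  rw [Fin.prod_univ_eq_prod_range (fun i => 2 ^ 5 - 2 ^ i) 5] at h
  simp only [Finset.prod_range_succ, Finset.prod_range_zero] at h
  norm_num at h
  rw [h]
  constructor <;> norm_num

theorem psu_five {F : Type} [Field F] [Fintype F] (hF : Fintype.card F = 4) :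
    2 ^ 10 ∣ Nat.card (PSU 5 F 2) ∧ 11 ∣ Nat.card (PSU 5 F 2) := by
  have h := Cfsg.Agent.S0280.result (F := F) (q := 2) (by rw [hF]; norm_num) 5 (by norm_num)
  simp only [Finset.prod_range_succ, Finset.prod_range_zero] at h
  norm_num [Nat.even_iff] at h
  constructor <;> omega

theorem psl_three {F : Type} [Field F] [Fintype F] (hF : Fintype.card F = 8) :
    73 ∣ Nat.card (Matrix.ProjectiveSpecialLinearGroup (Fin 3) F) := by
  have h := Cfsg.Agent.S0243.result (F := F) hF 3 (by norm_num)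
  rw [Fin.prod_univ_eq_prod_range (fun i => 8 ^ 3 - 8 ^ i) 3] at h
  simp only [Finset.prod_range_succ, Finset.prod_range_zero] at h
  norm_num at h
  omega

/-- the groups which are left for `w = 6` -/
def Left (K : Type*) [Group K] : Prop :=
  (∃ (F : Type) (_ : Field F) (_ : Fintype F) (_ : CharP F 2), 4 ≤ Fintype.card F ∧
    Nonempty (K ≃* Matrix.ProjectiveSpecialLinearGroup (Fin 2) F)) ∨
  (∃ (F : Type) (_ : Field F) (_ : Fintype F) (_ : CharP F 2),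
    (Fintype.card F = 2 ∨ Fintype.card F = 4) ∧
    Nonempty (K ≃* Matrix.ProjectiveSpecialLinearGroup (Fin 3) F)) ∨
  (∃ (F : Type) (_ : Field F) (_ : Fintype F) (_ : CharP F 2), Fintype.card F = 2 ∧
    Nonempty (K ≃* Matrix.ProjectiveSpecialLinearGroup (Fin 4) F)) ∨
  (∃ (F : Type) (_ : Field F) (_ : Fintype F) (_ : CharP F 2), Fintype.card F = 4 ∧ Nonempty (K ≃* PSp 2 F)) ∨
  (∃ (F : Type) (_ : Field F) (_ : Fintype F) (_ : CharP F 2), Fintype.card F = 2 ∧ Nonempty (K ≃* PSp 3 F)) ∨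
  (∃ (F : Type) (_ : Field F) (_ : Fintype F) (_ : CharP F 2) (q : ℕ), Fintype.card F = q ^ 2 ∧ 4 ≤ q ∧
    Nonempty (K ≃* PSU 3 F q)) ∨
  (∃ (F : Type) (_ : Field F) (_ : Fintype F) (_ : CharP F 2), Fintype.card F = 4 ∧ Nonempty (K ≃* PSU 4 F 2)) ∨
  Lie.IsoSuzuki K ∨ Lie.Iso2F4 K

/-- **The order table** (form of helper415). -/
theorem ord {K : Type*} [Group K] (hK : IsLieTypeChar 2 K) (h12 : ¬ 2 ^ 12 ∣ Nat.card K)
    (h : ¬ 2 ^ 10 ∣ Nat.card K ∨ ¬ 11 ∣ Nat.card K ∧ ¬ 31 ∣ Nat.card K) (h73 : ¬ 73 ∣ Nat.card K) : Left K := by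
  rcases small hK with h1 | h1 | h1 | h1 | h1 | h1 | h1 | h1
  · exact absurd h1 h12
  · exact Or.inr (Or.inr (Or.inr (Or.inr (Or.inr (Or.inr (Or.inr (Or.inr h1)))))))
  · exact Or.inl h1
  · obtain ⟨F, _, _, _, hF, ⟨e⟩⟩ := h1
    refine Or.inr (Or.inl ⟨F, inferInstance, inferInstance, inferInstance, ?_, ⟨e⟩⟩)
    rcases hF with hF | hF | hF
    · exact Or.inl hF
    · exact Or.inr hF
    · refine absurd ?_ h73
      rw [Nat.card_congr e.toEquiv]
      exact psl_three hF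
  · obtain ⟨F, _, _, _, hF, he | ⟨⟨e⟩⟩ | he⟩ := h1
    · exact Or.inr (Or.inr (Or.inl ⟨F, inferInstance, inferInstance, inferInstance, hF, he⟩))
    · exfalso
      rw [Nat.card_congr e.toEquiv] at h
      obtain ⟨h2, h3⟩ := psl_five hF
      rcases h with h | h
      · exact h h2
      · exact h.2 h3
    · exact Or.inr (Or.inr (Or.inr (Or.inr (Or.inl ⟨F, inferInstance, inferInstance, inferInstance, hF, he⟩))))
  · obtain ⟨F, _, _, _, hF, he | he | ⟨⟨e⟩⟩⟩ := h1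
    · exact Or.inr (Or.inr (Or.inr (Or.inl ⟨F, inferInstance, inferInstance, inferInstance, hF, he⟩)))
    · exact Or.inr (Or.inr (Or.inr (Or.inr (Or.inr (Or.inr (Or.inl
        ⟨F, inferInstance, inferInstance, inferInstance, hF, he⟩))))))
    · exfalso
      rw [Nat.card_congr e.toEquiv] at h
      obtain ⟨h2, h3⟩ := psu_five hF
      rcases h with h | h
      · exact h h2
      · exact h.1 h3
  · obtain ⟨F, _, _, _, q, hF, hq, he⟩ := h1
    exact Or.inr (Or.inr (Or.inr (Or.inr (Or.inr (Or.inl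
      ⟨F, inferInstance, inferInstance, inferInstance, q, hF, by omega, he⟩)))))
  · exact Or.inr (Or.inr (Or.inr (Or.inr (Or.inr (Or.inr (Or.inr (Or.inl h1)))))))

end Cfsg.Agent.Omega.EH3.ESix.Ord
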