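import Cfsg.Agent.Omega.EH3.ESix.Prime
import Cfsg.Agent.Omega.EH3.ESix.Ord

/-!
# EH3, shape (iii), `w = 6`: the order of `L` (helper415; bb OMEGA #16215)

`L` normal in `H`, all its elements commute with `ζ`.
* `card_U`, `card_B` : `2 ^ 10 ∤ |L|` in type (U), `2 ^ 12 ∤ |L|` in type (B);
* `left` : `L/Z(L)` of Lie type in characteristic 2 is one of the groups `Ord.Left`.
-/

set_option autoImplicit false

namespace Cfsg.Agent.Omega.EH3.ESix.Core

open Subgroup Cfsg.Agent.Omega.EH3 Cfsg.Agent.Omega.EH3.ESix.Base Cfsg.Agent.Omega.EH3.ESix.Bound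

variable {H V : Type*} [Group H] [AddCommGroup V] [Module (ZMod 2) V]
  {ρ : H →* (V ≃ₗ[ZMod 2] V)} {b : LinearMap.BilinForm (ZMod 2) V} {q : V → ZMod 2}
  {a : V} {D : Submodule (ZMod 2) V} {X : Subgroup H} {w : ℕ} {ζ : V →ₗ[ZMod 2] V} {L : Subgroup H}

/-- a Sylow 2-subgroup of `L` fixes a conjugate of `a`: the bound for `L_a` is a bound for `|L|_2` -/
theorem two_part (C : Cfg ρ b q a D X w) (hL : L.Normal) {n : ℕ}
    (hn : ∀ P : Subgroup H, P ≤ L → (∀ p ∈ P, ρ p a = a) → IsPGroup 2 P → Nat.card P < 2 ^ n) :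
    ¬ 2 ^ n ∣ Nat.card L := by
  intro hd
  have := C.finite_H
  have : Fact (Nat.Prime 2) := ⟨Nat.prime_two⟩
  obtain ⟨S, -, hS⟩ := C.exists_syl
  let Q : Sylow 2 L := default
  have h1 : 2 ^ n ∣ Nat.card Q := Q.pow_dvd_card_of_pow_dvd_card hd
  have hQ : IsPGroup 2 ((Q : Subgroup L).map L.subtype) := Q.isPGroup'.map _
  obtain ⟨S₀, hS₀⟩ := hQ.exists_le_sylow
  obtain ⟨k, hk⟩ := MulAction.exists_smul_eq H S₀ S
  have h2 : ∀ x ∈ (Q : Subgroup L), k * (x : H) * k⁻¹ ∈ S := by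
    intro x hx
    rw [← hk]
    exact ⟨(x : H), hS₀ ⟨x, hx, rfl⟩, rfl⟩
  have h3 := hn ((S : Subgroup H) ⊓ L) inf_le_right (fun p hp => hS hp.1)
    (S.isPGroup'.to_le inf_le_left)
  have h4 : Nat.card Q ≤ Nat.card ((S : Subgroup H) ⊓ L : Subgroup H) := by
    refine Nat.card_le_card_of_injective
      (fun x : (Q : Subgroup L) => (⟨k * ((x : L) : H) * k⁻¹, h2 x x.2, hL.conj_mem _ (x : L).2 k⟩ :
        ((S : Subgroup H) ⊓ L : Subgroup H))) ?_
    intro x y hxy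
    have h5 : k * ((x : L) : H) * k⁻¹ = k * ((y : L) : H) * k⁻¹ := congrArg Subtype.val hxy
    have h6 : ((x : L) : H) = ((y : L) : H) := mul_left_cancel (mul_right_cancel h5)
    exact Subtype.ext (Subtype.ext h6)
  have h5 := Nat.le_of_dvd Nat.card_pos h1
  omega

theorem card_B (C : Cfg ρ b q a D X 6) (Z : Zt ρ b ζ) (t : ∀ u v, b (ζ u) v = b u (ζ v)) (hL : L.Normal)
    (hlin : ∀ l ∈ L, Lin ρ ζ l) : ¬ 2 ^ 12 ∣ Nat.card L := by
  refine two_part C hL fun P hP ha h2 => ?_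
  have := bound_B C Z t (P := P) ⟨ha, fun p hp => hlin p (hP hp)⟩ h2
  exact this.trans_lt (by norm_num)

theorem card_U (C : Cfg ρ b q a D X 6) (Z : Zt ρ b ζ) (t : ∀ u v, b (ζ u) v = b u (ζ v) + b u v) (hL : L.Normal)
    (hlin : ∀ l ∈ L, Lin ρ ζ l) : ¬ 2 ^ 10 ∣ Nat.card L := by
  refine two_part C hL fun P hP ha h2 => ?_
  have := bound_U C Z t (P := P) ⟨ha, fun p hp => hlin p (hP hp)⟩ h2
  exact this.trans_lt (by norm_num)

theorem exists_order (C : Cfg ρ b q a D X w) {p : ℕ} (hp : p.Prime) (h : p ∣ Nat.card L) :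
    ∃ g ∈ L, orderOf g = p := by
  have := C.finite_H
  have : Fact p.Prime := ⟨hp⟩
  obtain ⟨g, hg⟩ := exists_prime_orderOf_dvd_card' p h
  exact ⟨g, g.2, by rw [Subgroup.orderOf_coe]; exact hg⟩

/-- **`L/Z(L)` is one of the groups `Ord.Left`.** -/
theorem left (C : Cfg ρ b q a D X 6) (Z : Zt ρ b ζ) (hL : L.Normal) (hlin : ∀ l ∈ L, Lin ρ ζ l)
    (hK : IsLieTypeChar 2 (L ⧸ center L)) : Ord.Left (L ⧸ center L) := by
  have hd : Nat.card (L ⧸ center L) ∣ Nat.card L := (center L).card_quotient_dvd_card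
  have h73 : ¬ 73 ∣ Nat.card (L ⧸ center L) := by
    intro h
    obtain ⟨g, hg, ho⟩ := exists_order C (by norm_num) (h.trans hd)
    exact Prime.no73 C Z (hlin g hg) ho
  rcases Z.type with t | t
  · refine Ord.ord hK (fun h => card_B C Z t hL hlin (h.trans hd)) (Or.inr ⟨fun h => ?_, fun h => ?_⟩) h73
    · obtain ⟨g, hg, ho⟩ := exists_order C (by norm_num) (h.trans hd)
      exact Prime.no11 C Z t (hlin g hg) ho
    · obtain ⟨g, hg, ho⟩ := exists_order C (by norm_num) (h.trans hd)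
      exact Prime.no31 C Z t (hlin g hg) ho
  · have h10 : ¬ 2 ^ 10 ∣ Nat.card (L ⧸ center L) := fun h => card_U C Z t hL hlin (h.trans hd)
    exact Ord.ord hK (fun h => h10 ((pow_dvd_pow 2 (by norm_num)).trans h)) (Or.inl h10) h73

end Cfsg.Agent.Omega.EH3.ESix.Core
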