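import Cfsg.Agent.Omega.EH3.ESix.Ord
import Cfsg.Agent.Omega.EH3.Rank1.Suz
import Cfsg.Agent.Omega.EH3.Rank1.UThree
import Cfsg.Agent.Omega.EH3.Rank1.RkPslEven
import Cfsg.Agent.Omega.EH3.RowLTwo
import Cfsg.Agent.Omega.EH3.RowTwF4
import Cfsg.Agent.Omega.TwoF.RowLU
import Cfsg.Agent.Omega.TwoF.RowPSp
import Cfsg.Agent.Omega.AltRow.Small
import Cfsg.Agent.S0252
import Cfsg.Agent.S0256
import Cfsg.Agent.S0822

/-!
# EH3, `End_L(V) = F₄`, `w = 6`: the rows outside `PSp` (helper234)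

* `l2_four`, `l3`, `l4`, `u4` : the rows `L₂(4) = A₅`, `L₃(2)`, `L₃(4)`, `L₄(2) = A₈`, `U₄(2) = PSp₄(3)`;
* `l2` : all rows `L₂(q)`, `q = 2^n ≥ 4`;
* `rows` : a group `K` of helper576's table `ESix.Ord.Left` is `PSp₄(4)`, `PSp₆(2)` or satisfies `RowEH3`.
-/

set_option autoImplicit false

namespace Cfsg.Agent.Omega.EH3.ESix.Rows

open Cfsg TwoF Matrix

universe u v

section rows

variable {K : Type v} [Group K]

theorem two_eq_zero (F : Type*) [Field F] [CharP F 2] : (2 : F) = 0 := by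
  exact_mod_cast CharP.cast_eq_zero F 2

/-- `L₂(4) = A₅` -/
theorem l2_four {F : Type*} [Field F] [Fintype F] (hF : Fintype.card F = 4)
    (e : K ≃* ProjectiveSpecialLinearGroup (Fin 2) F) : RowEH3.{u} K := by
  obtain ⟨e'⟩ := Cfsg.Agent.S0252.result (F := F) hF
  exact (AltRow.row_small.{u} (n := 5) le_rfl (by norm_num)).equiv (e.trans e')

/-- `L₄(2) = A₈` -/
theorem l4 {F : Type*} [Field F] [Fintype F] (hF : Fintype.card F = 2)
    (e : K ≃* ProjectiveSpecialLinearGroup (Fin 4) F) : RowEH3.{u} K := by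
  obtain ⟨e'⟩ := Cfsg.Agent.S0256.result (F := F) hF
  exact (AltRow.row_small.{u} (n := 8) (by norm_num) (by norm_num)).equiv (e.trans e')

/-- `U₄(2) = PSp₄(3)` -/
theorem u4 {F : Type*} [Field F] [Fintype F] (hF : Fintype.card F = 4) (e : K ≃* PSU 4 F 2) : RowEH3.{u} K := by
  have h3 : Fact (Nat.Prime 3) := ⟨Nat.prime_three⟩
  obtain ⟨e'⟩ := Cfsg.Agent.S0822.result (F := F) (K := ZMod 3) hF (ZMod.card 3)
  exact (RowEH3.of_kill (Omega.TwoF.RowPSp.kill2.{u, 0} (F := ZMod 3) (p := 3) (by norm_num) le_rfl)).equiv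
    (e.trans e')

/-- `L₃(q)`, `q = 2^k` with `k ≤ 2` -/
theorem l3 {F : Type} [Field F] [Fintype F] (h2 : (2 : F) = 0) {k : ℕ} (hk : k ≤ 2) (hF : Fintype.card F = 2 ^ k)
    (e : K ≃* ProjectiveSpecialLinearGroup (Fin 3) F) : RowEH3.{u} K := by
  obtain ⟨hs, hc⟩ := Omega.TwoF.RowLU.simple_psl (F := F) (n := 3) (by norm_num) (by norm_num)
  exact (RowEH3.of_rk hc (RK.of_mul_self (Rank1.RkPslEven.rkAut_three h2 hF (by omega) (by omega)))).equiv e

/-- `L₂(q)`, `q = 2^n ≥ 4` -/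
theorem l2 {F : Type*} [Field F] [Fintype F] [CharP F 2] (h4 : 4 ≤ Fintype.card F)
    (e : K ≃* ProjectiveSpecialLinearGroup (Fin 2) F) : RowEH3.{u} K := by
  by_cases h8 : 8 ≤ Fintype.card F
  · exact row_psl (by rwa [Nat.card_eq_fintype_card]) e
  · refine l2_four ?_ e
    obtain ⟨f, hf, hF⟩ := Ord.exists_pow (F := F)
    rw [hF] at h4 h8 ⊢
    have h1 : f < 3 := by
      by_contra h
      exact h8 (Nat.pow_le_pow_right (n := 2) two_pos (show 3 ≤ f by omega))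
    interval_cases f <;> omega

end rows

/-- **All rows of the table `ESix.Ord.Left` except `PSp₄(4)` and `PSp₆(2)`.** -/
theorem rows {K : Type v} [Group K] (h : Ord.Left K) :
    RowEH3.{u} K ∨
    (∃ (F : Type) (_ : Field F) (_ : Fintype F) (_ : CharP F 2), Fintype.card F = 4 ∧ Nonempty (K ≃* PSp 2 F)) ∨
    (∃ (F : Type) (_ : Field F) (_ : Fintype F) (_ : CharP F 2), Fintype.card F = 2 ∧ Nonempty (K ≃* PSp 3 F)) := by
  rcases h with ⟨F, _, _, _, hF, ⟨e⟩⟩ | ⟨F, _, _, _, hF, ⟨e⟩⟩ | ⟨F, _, _, _, hF, ⟨e⟩⟩ | h | h |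
    ⟨F, _, _, _, q, hF, hq, ⟨e⟩⟩ | ⟨F, _, _, _, hF, ⟨e⟩⟩ | h | h
  · exact Or.inl (l2 hF e)
  · rcases hF with hF | hF
    · exact Or.inl (l3 (two_eq_zero F) (k := 1) (by norm_num) hF e)
    · exact Or.inl (l3 (two_eq_zero F) (k := 2) le_rfl hF e)
  · exact Or.inl (l4 hF e)
  · exact Or.inr (Or.inl h)
  · exact Or.inr (Or.inr h)
  · exact Or.inl (Rank1.UThree.row_u3 hF (two_eq_zero F) hq e)
  · exact Or.inl (u4 hF e)
  · exact Or.inl (Rank1.row_sz h)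
  · exact Or.inl (TwF4Row.row_twF4 h)

end Cfsg.Agent.Omega.EH3.ESix.Rows
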