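import Cfsg.Agent.Omega.EH3.ESix.Base
import Cfsg.Agent.Omega.EH3.Kf.RowOf
import Cfsg.Agent.Omega.EH3.Kf.SpRow
import Cfsg.Agent.Omega.EH3.Kf.TorSys
import Cfsg.Prelude.Def_CaseTheorems

/-!
# EH3, shape (iii): `Sp₆(2)` and `Sp₄(4)` (helper810; bb OMEGA #16215; the argument for `Sp₄(4)` is due to helper576)

`L` normal in `H`, linear for the `F₄`-structure `ζ`, quasisimple with `L / Z(L) ≅ Sp₆(2)` or `Sp₄(4)`, `|Z(L)|` odd: `False`.

* `false_of_fix` : the torus of a root group datum of `L` moves `a`;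
* `Cv` : a datum on a perfect central extension, with the map to the group with coordinates; `Cv.mem_T`, `Cv.exists_c`;
* `T0_eq_bot` : all root groups of order 2 ==> the torus `T0` is trivial (`Sp₆(2)`);
* `core` : type `B₂`, `q = 4` : a frame automorphism `β` with `β² = 1` and `|T : C_T(β)| ≤ 3` is trivial (`Sp₄(4)`).
-/

set_option autoImplicit false
set_option linter.unusedSectionVars false

namespace Cfsg.Agent.Omega.EH3.ESix.Sp

open CoxeterSystem Cfsg.Agent.ChevalleyStructure.CoxeterGeom Cfsg.Agent.Tits.Roots Cfsg.Agent.Tits.Core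
  Cfsg.Agent.Tits.RootComb Cfsg.Agent.Nodes.Comb Cfsg.Agent.Nodes.Reps Cfsg.Agent.Nodes.BNOf
  Cfsg.Agent.Nodes.StabComb Cfsg.Agent.Nodes.Bruhat Cfsg.Agent.Nodes.OppDec Cfsg.Agent.Nodes.Coroot
  Cfsg.Agent.KFacts.RgdAut Cfsg.Agent.KFacts.RgdDiag Cfsg.Agent.KFacts.RgdRigid Cfsg.Agent.KFacts.ChevTwo
  Cfsg.Agent.KFacts.RgdSys Cfsg.Agent.Omega.EH3.ESix.Base Cfsg.Agent.Omega.EH3.Kf Cfsg.Agent.Omega.EH3.Kf.Tor

section mod

variable {I W H V : Type*} [Fintype I] [DecidableEq I] [Group W] [Group H] [AddCommGroup V]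
    [Module (ZMod 2) V] {M : CoxeterMatrix I} {cs : CoxeterSystem M W} {A : I → I → ℤ} {h : IsCartan M A}
    {ρ : H →* (V ≃ₗ[ZMod 2] V)} {b : LinearMap.BilinForm (ZMod 2) V} {q : V → ZMod 2}
    {a : V} {D : Submodule (ZMod 2) V} {P : Subgroup H} {w : ℕ} {ζ : V →ₗ[ZMod 2] V} {L : Subgroup H}
    {T : Subgroup L} {n : I → L} {X : (I → ℤ) → Subgroup L}

/-- **the torus moves `a`** -/
theorem false_of_fix [Finite W] (C : Cfg ρ b q a D P w) (Z : Zt ρ b ζ) (hlin : ∀ l ∈ L, Lin ρ ζ l)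
    (N : CR.Md cs h T n X (ρ.comp L.subtype) b) (hU : ∀ u ∈ RGD.Sup X (RGD.Pos cs h), ρ u a = a)
    (hT : ∀ t ∈ T, ρ t a = a) : False := by
  have hfV := C.finite_V
  have hfH := C.finite_H
  have h1 : Submodule.span (ZMod 2) {a} = CR.VU cs h X (ρ.comp L.subtype) := by
    refine N.irrU ?_ ?_ ?_
    · rw [Submodule.span_singleton_le_iff_mem]
      exact fun u hu => hU u hu
    · intro t ht v hv
      rw [Submodule.mem_span_singleton] at hv ⊢
      obtain ⟨c, rfl⟩ := hv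
      exact ⟨c, by rw [map_smul]; congr 1; exact (hT t ht).symm⟩
    · rw [Ne, Submodule.span_singleton_eq_bot]
      exact C.a_ne
  have h2 : ζ a ∈ CR.VU cs h X (ρ.comp L.subtype) := by
    intro u hu
    show ρ u (ζ a) = ζ a
    rw [hlin u u.2, hU u hu]
  rw [← h1, Submodule.mem_span_singleton] at h2
  obtain ⟨c, hc⟩ := h2
  rcases zmod_two c with rfl | rfl
  · rw [zero_smul] at hc
    exact C.a_ne (Z.zero hc.symm)
  · rw [one_smul] at hc
    exact C.a_ne (Z.ne hc.symm)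

/-- the torus acts on `a` by `F₄`-scalars -/
theorem act_T [Finite W] (C : Cfg ρ b q a D P w)
    (hEnd : ∀ f : V →ₗ[ZMod 2] V, (∀ l ∈ L, ∀ v, f (ρ l v) = ρ l (f v)) →
      f = 0 ∨ f = LinearMap.id ∨ f = ζ ∨ f = ζ + LinearMap.id)
    (N : CR.Md cs h T n X (ρ.comp L.subtype) b) (hab : ∀ s ∈ T, ∀ t ∈ T, s * t = t * s)
    (hU : ∀ u ∈ RGD.Sup X (RGD.Pos cs h), ρ u a = a) {t : L} (ht : t ∈ T) :
    ρ t a = a ∨ ρ t a = ζ a ∨ ρ t a = ζ a + a := by
  have hfV := C.finite_V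
  have hfH := C.finite_H
  have hnV := C.nontrivial_V
  set τ := ρ.comp L.subtype with hτ
  set Γ : Submodule (ZMod 2) (V × V) :=
    (CR.VU cs h X τ).map (LinearMap.prod LinearMap.id (τ t).toLinearMap) with hΓ
  have hΓm : ∀ p, p ∈ Γ ↔ p.1 ∈ CR.VU cs h X τ ∧ τ t p.1 = p.2 := by
    rintro ⟨v, w⟩
    constructor
    · rintro ⟨v', hv', e⟩
      have e' : (v', τ t v') = (v, w) := e
      rw [Prod.mk.injEq] at e'
      obtain ⟨rfl, rfl⟩ := e'
      exact ⟨hv', rfl⟩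
    · rintro ⟨h1, h2⟩
      exact ⟨v, h1, Prod.ext rfl h2⟩
  obtain ⟨f, hf, hfΓ⟩ := N.exists_ext (Γ := Γ) (fun p hp => by
      obtain ⟨h1, h2⟩ := (hΓm p).1 hp
      exact ⟨h1, by rw [← h2]; exact CR.stab_VU N.rgd t ht _ h1⟩) (fun s hs p hp => by
      obtain ⟨h1, h2⟩ := (hΓm p).1 hp
      refine (hΓm _).2 ⟨CR.stab_VU N.rgd s hs _ h1, ?_⟩
      show τ t (τ s p.1) = τ s p.2
      rw [← h2, ← rho_mul, ← rho_mul, hab t ht s hs]) (fun v hv => ⟨τ t v, (hΓm _).2 ⟨hv, rfl⟩⟩) (fun w hw => by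
      obtain ⟨h1, h2⟩ := (hΓm _).1 hw
      have h3 : τ t (0 : V) = w := h2
      rw [← h3, map_zero])
  have ha : f a = ρ t a := hfΓ (a, ρ t a) ((hΓm _).2 ⟨fun u hu => hU u hu, rfl⟩)
  rcases hEnd f (fun l hl v => hf ⟨l, hl⟩ v) with h1 | h1 | h1 | h1
  · exfalso
    rw [h1] at ha
    exact C.a_ne (C.ρ_inj t (ha.symm.trans (map_zero _).symm))
  · left
    rw [← ha, h1]
    rfl
  · right; left
    rw [← ha, h1]
  · right; right
    rw [← ha, h1]
    rfl

end mod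

/-! ### the data on the cover -/

section cv

variable {I W Y K' F : Type*} [Fintype I] [DecidableEq I] [Group W] [Group Y] [Group K'] [Field F]
  {M : CoxeterMatrix I} {cs : CoxeterSystem M W} {A : I → I → ℤ} {h : IsCartan M A}

/-- a datum on a central extension with the map to the group with coordinates -/
structure Cv (cs : CoxeterSystem M W) (h : IsCartan M A) (T : Subgroup Y) (n : I → Y) (X : (I → ℤ) → Subgroup Y)
    (T' : Subgroup K') (X' : (I → ℤ) → Subgroup K') (f : Y →* K') : Prop where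
  rgd : RGD cs h 2 T n X
  g1 : RGD.Sup X {x | IsRoot cs h x} = ⊤
  ab : ∀ s ∈ T, ∀ t ∈ T, s * t = t * s
  nmem : ∀ j, n j ∈ Lr X j
  sq : ∀ x, IsRoot cs h x → ∀ y ∈ X x, y * y = 1
  fT : ∀ t ∈ T, f t ∈ T'
  fX : ∀ x, IsRoot cs h x → (X x).map f = X' x
  fi : ∀ x, IsRoot cs h x → ∀ y ∈ X x, f y = 1 → y = 1
  cen : f.ker ≤ Subgroup.center Y
  odd : (Nat.card f.ker).Coprime 2

theorem exists_cv [Finite W] [Finite F] [CharP F 2] {e : (I → ℤ) → F → K'} {T' : Subgroup K'} {n' : I → K'}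
    {X' : (I → ℤ) → Subgroup K'} {R : RGD cs h 2 T' n' X'} (S : Sys R e)
    (hG1 : RGD.Sup X' {x | IsRoot cs h x} = ⊤) (hN : KFacts.RgdCent.NoCent cs h T' X') [Finite Y] (f : Y →* K')
    (hf : f.ker ≤ Subgroup.center Y) (hp : (Nat.card f.ker).Coprime 2) (hs : Function.Surjective f)
    (hperf : ⁅(⊤ : Subgroup Y), (⊤ : Subgroup Y)⁆ = ⊤) :
    ∃ (T : Subgroup Y) (n : I → Y) (X : (I → ℤ) → Subgroup Y), Cv cs h T n X T' X' f := by
  have : Fact (Nat.Prime 2) := ⟨Nat.prime_two⟩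
  obtain ⟨T, n, X, h1, h2, h3, h4, -, h6, h5⟩ := lift hf hp hs R hperf (TorSys.rank1 S hG1 hN) hG1
  refine ⟨T, n, X, h1, h2, h3, h4, fun x hx => ?_, fun t ht => h6 (Subgroup.mem_map_of_mem f ht),
    fun x hx => (h5 x hx).1, fun x hx => (h5 x hx).2, hf, hp⟩
  refine sq_of_map (h5 x hx).1 (h5 x hx).2 fun y hy => ?_
  obtain ⟨t, rfl⟩ := (S.mem_X x hx y).1 hy
  exact S.data.sq hx t

variable {T : Subgroup Y} {n : I → Y} {X : (I → ℤ) → Subgroup Y} {T' : Subgroup K'} {n' : I → K'}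
  {X' : (I → ℤ) → Subgroup K'} {f : Y →* K'} (J : Cv cs h T n X T' X' f)

include J

theorem Cv.conjugate (g : Y) : Cv cs h (cj g T) (fun i => g * n i * g⁻¹) (fun x => cj g (X x)) T' X'
    (f.comp (MulAut.conj g⁻¹).toMonoidHom) where
  rgd := RowOf.rgd_cj J.rgd g
  g1 := by
    rw [RowOf.Sup_cj, J.g1, eq_top_iff]
    intro x _
    rw [mem_cj]
    exact Subgroup.mem_top _
  ab := by
    intro s hs t ht
    rw [mem_cj] at hs ht
    have h1 := J.ab _ hs _ ht
    have h2 : g * (g⁻¹ * s * g * (g⁻¹ * t * g)) * g⁻¹ = g * (g⁻¹ * t * g * (g⁻¹ * s * g)) * g⁻¹ := by rw [h1]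
    have e1 : g * (g⁻¹ * s * g * (g⁻¹ * t * g)) * g⁻¹ = s * t := by group
    have e2 : g * (g⁻¹ * t * g * (g⁻¹ * s * g)) * g⁻¹ = t * s := by group
    rw [← e1, h2, e2]
  nmem j := by
    unfold Lr
    rw [← cj_sup]
    exact conj_mem_cj.2 (J.nmem j)
  sq x hx y hy := by
    have h1 := J.sq x hx _ (mem_cj.1 hy)
    have e1 : y * y = g * (g⁻¹ * y * g * (g⁻¹ * y * g)) * g⁻¹ := by group
    rw [e1, h1]; group
  fT t ht := by
    have h1 := J.fT _ (mem_cj.1 ht)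
    have e1 : (f.comp (MulAut.conj g⁻¹).toMonoidHom) t = f (g⁻¹ * t * g) := by
      show f (g⁻¹ * t * g⁻¹⁻¹) = _
      rw [inv_inv]
    rw [e1]
    exact h1
  fX x hx := by
    rw [← J.fX x hx]
    ext k
    constructor
    · rintro ⟨y, hy, rfl⟩
      refine ⟨g⁻¹ * y * g, mem_cj.1 hy, ?_⟩
      show _ = f (g⁻¹ * y * g⁻¹⁻¹)
      rw [inv_inv]
    · rintro ⟨y, hy, rfl⟩
      refine ⟨g * y * g⁻¹, conj_mem_cj.2 hy, ?_⟩
      show f (g⁻¹ * (g * y * g⁻¹) * g⁻¹⁻¹) = _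
      congr 1
      group
  fi x hx y hy h1 := by
    have h2 : f (g⁻¹ * y * g) = 1 := by
      have : f (g⁻¹ * y * g⁻¹⁻¹) = 1 := h1
      rwa [inv_inv] at this
    have h3 := J.fi x hx _ (mem_cj.1 hy) h2
    have e1 : y = g * (g⁻¹ * y * g) * g⁻¹ := by group
    rw [e1, h3]; group
  cen := by
    intro y hy
    have h2 : f (g⁻¹ * y * g) = 1 := by
      have : f (g⁻¹ * y * g⁻¹⁻¹) = 1 := hy
      rwa [inv_inv] at this
    have h3 := J.cen (MonoidHom.mem_ker.2 h2)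
    have h4 := Subgroup.mem_center_iff.1 h3 g
    have e1 : y = g * (g⁻¹ * y * g) * g⁻¹ := by group
    have e2 : y = g⁻¹ * y * g := by
      conv_lhs => rw [e1, h4]
      group
    rw [e2]
    exact h3
  odd := by
    have h1 : Nat.card (f.comp (MulAut.conj g⁻¹).toMonoidHom).ker = Nat.card f.ker := by
      rw [← MonoidHom.comap_ker]
      exact Nat.card_congr ((MulAut.conj g⁻¹).toEquiv.subtypeEquiv fun y => Iff.rfl)
    rw [h1]
    exact J.odd

/-- an element over the torus lies in the torus -/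
theorem Cv.mem_T [Finite Y] [Finite W] (R' : RGD cs h 2 T' n' X') {y : Y} (hy : f y ∈ T') : y ∈ T := by
  have : Fact (Nat.Prime 2) := ⟨Nat.prime_two⟩
  have hle : ∀ r, IsRoot cs h r → cj y (X r) ≤ X r := by
    intro r hr v hv
    have hv' := mem_cj.1 hv
    have h1 : f v ∈ X' r := by
      have h2 : f (y⁻¹ * v * y) ∈ X' r := by rw [← J.fX r hr]; exact Subgroup.mem_map_of_mem f hv'
      have h3 : f y * f (y⁻¹ * v * y) * (f y)⁻¹ ∈ cj (f y) (X' r) := conj_mem_cj.2 h2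
      rw [R'.tor r hr _ hy, ← map_inv, ← map_mul, ← map_mul] at h3
      have e : y * (y⁻¹ * v * y) * y⁻¹ = v := by group
      rwa [e] at h3
    rw [← J.fX r hr] at h1
    obtain ⟨v', hv1, hv2⟩ := h1
    have hz : v'⁻¹ * v ∈ f.ker := by rw [MonoidHom.mem_ker, map_mul, map_inv, hv2, inv_mul_cancel]
    have hzc := Subgroup.mem_center_iff.1 (J.cen hz)
    have h2 : v * v = 1 := by
      have h3 := J.sq r hr _ hv'
      have e1 : v * v = y * (y⁻¹ * v * y * (y⁻¹ * v * y)) * y⁻¹ := by group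
      rw [e1, h3]; group
    have h3 := J.sq r hr _ hv1
    have h4 : (v'⁻¹ * v) * (v'⁻¹ * v) = 1 := by
      have e1 : v'⁻¹ * v * (v'⁻¹ * v) = v'⁻¹ * (v * (v'⁻¹ * v)) := by group
      have e2 : v'⁻¹ * (v'⁻¹ * v * v) = (v' * v')⁻¹ * (v * v) := by group
      rw [e1, hzc v, e2, h3, h2]; group
    have h5 : v'⁻¹ * v = 1 := by
      have h6 : orderOf (⟨v'⁻¹ * v, hz⟩ : f.ker) ∣ 2 := orderOf_dvd_of_pow_eq_one (by
        rw [pow_two]; exact Subtype.ext h4)
      have h7 : orderOf (⟨v'⁻¹ * v, hz⟩ : f.ker) ∣ Nat.card f.ker := orderOf_dvd_natCard _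
      have h8 : orderOf (⟨v'⁻¹ * v, hz⟩ : f.ker) = 1 := Nat.eq_one_of_dvd_coprimes J.odd h7 h6
      exact congrArg Subtype.val (orderOf_eq_one_iff.1 h8)
    rw [← inv_mul_eq_one.1 h5]
    exact hv1
  have hfix : ∀ r, IsRoot cs h r → cj y (X r) = X r := by
    intro r hr
    refine Subgroup.eq_of_le_of_card_ge (hle r hr) (le_of_eq ?_)
    exact Nat.card_congr ((X r).equivMapOfInjective _ (MulAut.conj y).injective).toEquiv
  have hsup : ∀ Ω : Set (I → ℤ), (∀ x ∈ Ω, IsRoot cs h x) → y ∈ Subgroup.normalizer (RGD.Sup X Ω : Set Y) := by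
    intro Ω hΩ
    rw [mem_normalizer_iff_cj, RGD.cj_Sup]
    exact iSup_congr fun z => hfix z.1 (hΩ z.1 z.2)
  have hG := GG_eq_top (T := T) J.g1
  rw [← B_inf_BN J.rgd]
  refine ⟨?_, ?_⟩
  · rw [← normalizer_U' J.rgd hG]
    exact hsup _ fun x hx => hx.1
  · rw [← normalizer_UN J.rgd hG]
    exact hsup _ fun x hx => hx.1

/-- elements of the rank one tori over elements of the rank one tori -/
theorem Cv.exists_c [Finite Y] [Finite W] (R' : RGD cs h 2 T' n' X') {i : I} {c' : K'} (hc : c' ∈ T' ⊓ Lr X' i) :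
    ∃ c ∈ T ⊓ Lr X i, f c = c' := by
  have h1 : (Lr X i).map f = Lr X' i := by
    unfold Lr
    rw [Subgroup.map_sup, J.fX _ (isRoot_sr cs h i), J.fX _ (isRoot_sr cs h i).neg]
  have h2 : c' ∈ (Lr X i).map f := by rw [h1]; exact hc.2
  obtain ⟨c, hc1, rfl⟩ := h2
  exact ⟨c, ⟨J.mem_T R' hc.1, hc1⟩, rfl⟩

theorem Cv.inj {x : I → ℤ} (hx : IsRoot cs h x) {y z : Y} (hy : y ∈ X x) (hz : z ∈ X x) (he : f y = f z) : y = z := by
  have h1 := J.fi x hx _ (mul_mem (inv_mem hy) hz) (by rw [map_mul, map_inv, he, inv_mul_cancel])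
  exact inv_mul_eq_one.1 h1

theorem Cv.conj_mem {x : I → ℤ} (hx : IsRoot cs h x) {t y : Y} (ht : t ∈ T) (hy : y ∈ X x) : t * y * t⁻¹ ∈ X x := by
  rw [← J.rgd.tor x hx t ht]
  exact conj_mem_cj.2 hy

section S

variable {e : (I → ℤ) → F → K'} {R' : RGD cs h 2 T' n' X'} (S : Sys R' e)

include S

theorem Cv.coord {x : I → ℤ} (hx : IsRoot cs h x) {y : Y} (hy : y ∈ X x) : ∃ c, f y = e x c := by
  have h1 : f y ∈ X' x := by rw [← J.fX x hx]; exact Subgroup.mem_map_of_mem f hy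
  obtain ⟨c, hc⟩ := (S.mem_X x hx _).1 h1
  exact ⟨c, hc.symm⟩

theorem Cv.exists_coord {x : I → ℤ} (hx : IsRoot cs h x) (c : F) : ∃ y ∈ X x, f y = e x c := by
  have h1 : e x c ∈ X' x := (S.mem_X x hx _).2 ⟨c, rfl⟩
  rw [← J.fX x hx] at h1
  obtain ⟨y, hy, hc⟩ := h1
  exact ⟨y, hy, hc⟩

/-- the scalar of `t` on `X x` -/
theorem Cv.act {x : I → ℤ} (hx : IsRoot cs h x) {t y : Y} (ht : t ∈ T) {c : F} (hc : f y = e x c) :
    f (t * y * t⁻¹) = e x (chS e x (f t) * c) := by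
  rw [map_mul, map_mul, map_inv, hc]
  exact chS_spec S hx (J.fT t ht) c

theorem Cv.ch_ne {x : I → ℤ} (hx : IsRoot cs h x) {t : Y} (ht : t ∈ T) : chS e x (f t) ≠ 0 := by
  intro h0
  have h1 := chS_spec S hx (J.fT t ht) 1
  rw [h0, zero_mul, S.data.zero hx] at h1
  have h2 : e x 1 = 1 := by
    have h3 : e x 1 = (f t)⁻¹ * (f t * e x 1 * (f t)⁻¹) * f t := by group
    rw [h3, h1]; group
  exact one_ne_zero (S.data.inj x hx _ h2)

theorem Cv.ch_mul {x : I → ℤ} (hx : IsRoot cs h x) {s t : Y} (hs : s ∈ T) (ht : t ∈ T) :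
    chS e x (f (s * t)) = chS e x (f s) * chS e x (f t) := by
  refine chS_eq S hx (J.fT _ (mul_mem hs ht)) fun c => ?_
  rw [map_mul, mul_assoc (chS e x (f s)), ← chS_spec S hx (J.fT s hs), ← chS_spec S hx (J.fT t ht)]
  group

/-- `t` centralises `X x` iff its scalar is 1 -/
theorem Cv.cent_iff {x : I → ℤ} (hx : IsRoot cs h x) {t : Y} (ht : t ∈ T) :
    chS e x (f t) = 1 ↔ ∀ y ∈ X x, t * y = y * t := by
  constructor
  · intro h1 y hy
    obtain ⟨c, hc⟩ := J.coord S hx hy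
    have h2 := J.act S hx ht hc
    rw [h1, one_mul, ← hc] at h2
    exact mul_inv_eq_iff_eq_mul.1 (J.inj hx (J.conj_mem hx ht hy) hy h2)
  · intro h1
    obtain ⟨y, hy, hc⟩ := J.exists_coord S hx 1
    have h2 := J.act S hx ht hc
    rw [h1 y hy, mul_inv_cancel_right, hc, mul_one] at h2
    exact (S.data.injective hx h2).symm

end S

end cv

/-! ### root groups of order 2 -/

section two

theorem dih {G : Type*} [Group G] {y z t : G} (hy : y * y = 1) (hz : z * z = 1) (ht : t ∈ Subgroup.closure {y, z})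
    (hc : y * t = t * y) : t * t = 1 := by
  have hyi : y⁻¹ = y := inv_eq_of_mul_eq_one_left hy
  have hzi : z⁻¹ = z := inv_eq_of_mul_eq_one_left hz
  have hk : ∀ k : ℤ, y * (y * z) ^ k = (y * z) ^ (-k) * y := by
    intro k
    have h1 : y * (y * z) ^ k * y⁻¹ = (y * (y * z) * y⁻¹) ^ k := (conj_zpow).symm
    have h2 : y * (y * z) * y⁻¹ = (y * z)⁻¹ := by
      rw [mul_inv_rev, hyi, hzi, ← mul_assoc, hy, one_mul]
    rw [h2, inv_zpow'] at h1
    rw [← h1]; group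
  have key : ∀ t ∈ Subgroup.closure {y, z}, ∃ k : ℤ, t = (y * z) ^ k ∨ t = (y * z) ^ k * y := by
    have hstep : ∀ g ∈ ({y, z} : Set G), ∀ t, (∃ k : ℤ, t = (y * z) ^ k ∨ t = (y * z) ^ k * y) →
        ∃ k : ℤ, g * t = (y * z) ^ k ∨ g * t = (y * z) ^ k * y := by
      have hY : ∀ t, (∃ k : ℤ, t = (y * z) ^ k ∨ t = (y * z) ^ k * y) →
          ∃ k : ℤ, y * t = (y * z) ^ k ∨ y * t = (y * z) ^ k * y := by
        rintro t ⟨k, rfl | rfl⟩
        · exact ⟨-k, Or.inr (hk k)⟩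
        · exact ⟨-k, Or.inl (by rw [← mul_assoc, hk, mul_assoc, hy, mul_one])⟩
      rintro g (rfl | rfl) t hT
      · exact hY t hT
      · have e1 : g = y * (y * g) := by rw [← mul_assoc, hy, one_mul]
        have h3 : ∃ k : ℤ, (y * g) * t = (y * g) ^ k ∨ (y * g) * t = (y * g) ^ k * y := by
          obtain ⟨k, rfl | rfl⟩ := hT
          · exact ⟨k + 1, Or.inl (by rw [zpow_add, zpow_one, ← zpow_one_add, add_comm, zpow_add, zpow_one])⟩
          · exact ⟨k + 1, Or.inr (by rw [← mul_assoc, ← zpow_one_add, add_comm])⟩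
        have h4 := hY _ h3
        rwa [← mul_assoc, ← e1] at h4
    intro t ht
    induction ht using Subgroup.closure_induction_left with
    | one => exact ⟨0, Or.inl (zpow_zero _).symm⟩
    | mul_left g hg t _ ih => exact hstep g hg t ih
    | inv_mul_cancel g hg t _ ih =>
      have h1 : g⁻¹ = g := by
        rcases hg with rfl | rfl
        · exact hyi
        · exact hzi
      rw [h1]
      exact hstep g hg t ih
  obtain ⟨k, rfl | rfl⟩ := key t ht
  · rw [hk] at hc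
    have h1 := mul_right_cancel hc
    calc (y * z) ^ k * (y * z) ^ k = (y * z) ^ (-k) * (y * z) ^ k := by rw [h1]
      _ = 1 := by rw [← zpow_add, neg_add_cancel, zpow_zero]
  · calc (y * z) ^ k * y * ((y * z) ^ k * y) = (y * z) ^ k * (y * (y * z) ^ k) * y := by group
      _ = 1 := by rw [hk, ← mul_assoc, ← zpow_add, add_neg_cancel, zpow_zero, one_mul, hy]

variable {I W Y K' F : Type*} [Fintype I] [DecidableEq I] [Group W] [Group Y] [Group K'] [Field F]
  {M : CoxeterMatrix I} {cs : CoxeterSystem M W} {A : I → I → ℤ} {h : IsCartan M A}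
  {T : Subgroup Y} {n : I → Y} {X : (I → ℤ) → Subgroup Y} {T' : Subgroup K'} {n' : I → K'}
  {X' : (I → ℤ) → Subgroup K'} {f : Y →* K'} (J : Cv cs h T n X T' X' f)
  {e : (I → ℤ) → F → K'} {R' : RGD cs h 2 T' n' X'} (S : Sys R' e)

theorem field_two (hF : Nat.card F = 2) (c : F) (hc : c ≠ 0) : c = 1 := by
  obtain ⟨y, -, hu⟩ := (Nat.card_eq_two_iff' (0 : F)).1 hF
  rw [hu c hc, hu 1 one_ne_zero]

include J S in
/-- all root groups of order 2: the rank one tori are trivial -/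
theorem T0_eq_bot [Finite Y] [Finite W] (hF : Nat.card F = 2) : T0 T X = ⊥ := by
  have : Fact (Nat.Prime 2) := ⟨Nat.prime_two⟩
  rw [eq_bot_iff]
  refine iSup_le fun i => ?_
  rintro t ⟨htT, htL⟩
  rw [Subgroup.mem_bot]
  have hx := isRoot_sr cs h i
  have key : ∀ x, IsRoot cs h x → ∀ y ∈ X x, f y = e x 1 → ∀ v ∈ X x, v = 1 ∨ v = y := by
    intro x hx y hy hy1 v hv
    obtain ⟨c, hc⟩ := J.coord S hx hv
    by_cases h0 : c = 0
    · left
      rw [h0, S.data.zero hx] at hc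
      exact J.fi x hx v hv hc
    · right
      rw [field_two hF c h0, ← hy1] at hc
      exact J.inj hx hv hy hc
  obtain ⟨y, hy, hy1⟩ := J.exists_coord S hx 1
  obtain ⟨z, hz, hz1⟩ := J.exists_coord S hx.neg 1
  have hL : Lr X i ≤ Subgroup.closure {y, z} := by
    refine sup_le ?_ ?_
    · intro v hv
      rcases key _ hx y hy hy1 v hv with rfl | rfl
      · exact one_mem _
      · exact Subgroup.subset_closure (by simp)
    · intro v hv
      rcases key _ hx.neg z hz hz1 v hv with rfl | rfl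
      · exact one_mem _
      · exact Subgroup.subset_closure (by simp)
  have hc := (J.cent_iff S hx htT).1 (field_two hF _ (J.ch_ne S hx htT)) y hy
  have h1 := dih (J.sq _ hx y hy) (J.sq _ hx.neg z hz) (hL htL) hc.symm
  exact eq_one_of_mem_T J.rgd htT (k := 1) (by rw [pow_one, pow_two]; exact h1)

end two

/-! ### type `B₂`, `q = 4` -/

section four

variable {F : Type*} [Field F] [Finite F] [CharP F 2] (hF : Nat.card F = 4)

include hF

theorem f4_pow {c : F} (hc : c ≠ 0) : c ^ 3 = 1 := by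
  have := Fintype.ofFinite F
  have h1 := FiniteField.pow_card_sub_one_eq_one c hc
  rwa [← Nat.card_eq_fintype_card, hF] at h1

theorem f4_cases {χ c : F} (h0 : χ ≠ 0) (h1 : χ ≠ 1) (hc : c ≠ 0) : c = 1 ∨ c = χ ∨ c = χ ^ 2 := by
  have h2 : (2 : F) = 0 := CharP.cast_eq_zero F 2
  have e1 : χ ^ 2 + χ + 1 = 0 := by
    have : (χ - 1) * (χ ^ 2 + χ + 1) = 0 := by
      have h3 := f4_pow hF h0
      linear_combination h3
    exact (mul_eq_zero.1 this).resolve_left (sub_ne_zero.2 h1)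
  by_cases hc1 : c = 1
  · exact Or.inl hc1
  right
  have e2 : c ^ 2 + c + 1 = 0 := by
    have : (c - 1) * (c ^ 2 + c + 1) = 0 := by
      have h3 := f4_pow hF hc
      linear_combination h3
    exact (mul_eq_zero.1 this).resolve_left (sub_ne_zero.2 hc1)
  have e3 : (c - χ) * (c - χ ^ 2) = 0 := by
    have h3 := f4_pow hF h0
    linear_combination e2 - c * e1 + h3
  rcases mul_eq_zero.1 e3 with h3 | h3
  · exact Or.inl (sub_eq_zero.1 h3)
  · exact Or.inr (sub_eq_zero.1 h3)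

theorem f4_exists : ∃ ω : F, ω ≠ 0 ∧ ω ≠ 1 := by
  by_contra hcon
  push Not at hcon
  have h1 : Nat.card F = 2 := (Nat.card_eq_two_iff' (0 : F)).2 ⟨1, one_ne_zero, fun y hy => hcon y hy⟩
  omega

theorem f4_sq {c : F} (h0 : c ≠ 0) (h1 : c ≠ 1) : c ^ 2 ≠ 1 := by
  intro h2
  apply h1
  have h3 := f4_pow hF h0
  rw [pow_succ, h2, one_mul] at h3
  exact h3

variable {W Y K' : Type*} [Group W] [Finite W] [Group Y] [Finite Y] [Group K']
  {M : CoxeterMatrix (Fin 2)} {cs : CoxeterSystem M W} {A : Fin 2 → Fin 2 → ℤ} {h : IsCartan M A}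
  {T : Subgroup Y} {n : Fin 2 → Y} {X : (Fin 2 → ℤ) → Subgroup Y} {T' : Subgroup K'} {n' : Fin 2 → K'}
  {X' : (Fin 2 → ℤ) → Subgroup K'} {f : Y →* K'} (J : Cv cs h T n X T' X' f)
  {e : (Fin 2 → ℤ) → F → K'} {R' : RGD cs h 2 T' n' X'} (S : Sys R' e)

include J S

/-- an involution commuting with a fixed point free action is trivial -/
theorem triv_of {β : MulAut Y} (hβ : ∀ y, β (β y) = y) {i : Fin 2} (hβX : ∀ y ∈ X (sr i), β y ∈ X (sr i)) {t : Y}
    (ht : t ∈ T) (hβt : β t = t) (hne : chS e (sr i) (f t) ≠ 1) : ∀ y ∈ X (sr i), β y = y := by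
  intro y hy
  have hx := isRoot_sr cs h i
  have h0 := J.ch_ne S hx ht
  set χ := chS e (sr i) (f t) with hχ
  obtain ⟨c, hc⟩ := J.coord S hx hy
  obtain ⟨c', hc'⟩ := J.coord S hx (hβX y hy)
  by_cases hc0 : c = 0
  · rw [hc0, S.data.zero hx] at hc
    rw [J.fi _ hx y hy hc, map_one]
  by_cases hc0' : c' = 0
  · exfalso
    rw [hc0', S.data.zero hx] at hc'
    have h1 := J.fi _ hx _ (hβX y hy) hc'
    have h2 : y = 1 := by rw [← hβ y, h1, map_one]
    rw [h2, map_one] at hc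
    exact hc0 (S.data.inj _ hx c hc.symm)
  have h3 := f4_pow hF h0
  have key : ∀ z ∈ X (sr i), ∀ d : F, f z = e (sr i) d → β y = t * z * t⁻¹ → c' = χ * d := by
    intro z hz d hd he
    have h4 := J.act S hx ht hd
    rw [← he, hc'] at h4
    exact S.data.injective hx h4
  have hty := J.conj_mem hx ht hy
  have htty := J.conj_mem hx ht hty
  rcases f4_cases hF h0 hne (div_ne_zero hc0' hc0) with h4 | h4 | h4
  · rw [div_eq_one_iff_eq hc0] at h4
    exact J.inj hx (hβX y hy) hy (by rw [hc', h4, hc])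
  · exfalso
    rw [div_eq_iff hc0] at h4
    have h5 : β y = t * y * t⁻¹ := J.inj hx (hβX y hy) hty (by rw [hc', h4, J.act S hx ht hc])
    have h6 : y = t * (t * y * t⁻¹) * t⁻¹ := by
      have h7 := congrArg β h5
      rw [hβ, map_mul, map_mul, map_inv, hβt, h5] at h7
      exact h7
    have h8 := J.act S hx ht (J.act S hx ht hc)
    rw [← h6, hc] at h8
    have h9 := S.data.injective hx h8
    refine f4_sq hF h0 hne ?_
    have h10 : χ ^ 2 * c = 1 * c := by rw [one_mul, pow_two, mul_assoc]; exact h9.symm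
    exact mul_right_cancel₀ hc0 h10
  · exfalso
    rw [div_eq_iff hc0] at h4
    have h5 : β y = t * (t * y * t⁻¹) * t⁻¹ := J.inj hx (hβX y hy) htty (by
      rw [hc', h4, J.act S hx ht (J.act S hx ht hc)]; congr 1; ring)
    have h6 : y = t * (t * (t * (t * y * t⁻¹) * t⁻¹) * t⁻¹) * t⁻¹ := by
      have h7 := congrArg β h5
      rw [hβ, map_mul, map_mul, map_mul, map_mul, map_inv, hβt, h5] at h7
      exact h7
    have h8 := J.act S hx ht (J.act S hx ht (J.act S hx ht (J.act S hx ht hc)))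
    rw [← h6, hc] at h8
    have h9 := S.data.injective hx h8
    apply hne
    have h10 : χ * c = 1 * c := by
      rw [one_mul]
      calc χ * c = χ ^ 3 * (χ * c) := by rw [h3, one_mul]
        _ = χ * (χ * (χ * (χ * c))) := by ring
        _ = c := h9.symm
    exact mul_right_cancel₀ hc0 h10

theorem core (hG1 : RGD.Sup X' {x | IsRoot cs h x} = ⊤) (hN : KFacts.RgdCent.NoCent cs h T' X') (h01 : A 0 1 = -2)
    (h10 : A 1 0 = -1) {β : MulAut Y} {σ : Equiv.Perm (Fin 2)} (D : Diag T X β σ) (hβ : ∀ y, β (β y) = y)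
    (h4 : ∀ s ∈ T, ∀ t ∈ T, β s = s ∨ β t = t ∨ β (s * t) = s * t ∨ β (s * (t * t)) = s * (t * t)) : β = 1 := by
  obtain ⟨ω, hω0, hω1⟩ := f4_exists hF
  have hω3 := f4_pow hF hω0
  have hω2 := f4_sq hF hω0 hω1
  -- the rank one tori
  have hel_T : ∀ (i : Fin 2) (c : F), c ≠ 0 → hel e (sr i) c ∈ T' ⊓ Lr X' i := fun i c hc =>
    (mem_T_rank_one S hG1 hN i _).2 ⟨c, hc, rfl⟩
  have hch : ∀ (i j : Fin 2) (c : F), c ≠ 0 → chS e (sr j) (hel e (sr i) c) = c ^ A i j := by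
    intro i j c hc
    rw [chS_hel S hG1 (isRoot_sr cs h i) (isRoot_sr cs h j) hc, cpr_sr, sr, pairing_single, mul_one]
  have hd0 : A 0 0 = 2 := h.diag 0
  have hd1 : A 1 1 = 2 := h.diag 1
  obtain ⟨c0, ⟨hc0T, hc0L⟩, hc0⟩ := J.exists_c R' (hel_T 0 ω hω0)
  obtain ⟨c1, ⟨hc1T, hc1L⟩, hc1⟩ := J.exists_c R' (hel_T 1 ω hω0)
  have hx0 := isRoot_sr cs h (0 : Fin 2)
  have hx1 := isRoot_sr cs h (1 : Fin 2)
  -- the scalars
  have h00 : chS e (sr 0) (f c0) = ω ^ 2 := by rw [hc0, hch 0 0 ω hω0, hd0]; exact zpow_ofNat ω 2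
  have h01' : chS e (sr 1) (f c0) = ω := by
    rw [hc0, hch 0 1 ω hω0, h01]
    have : ω ^ (-2 : ℤ) = ω ^ 3 * ω ^ (-2 : ℤ) := by rw [hω3, one_mul]
    rw [this, ← zpow_natCast ω 3, ← zpow_add₀ hω0]
    norm_num
  have h10' : chS e (sr 0) (f c1) = ω ^ 2 := by
    rw [hc1, hch 1 0 ω hω0, h10]
    have : ω ^ (-1 : ℤ) = ω ^ 3 * ω ^ (-1 : ℤ) := by rw [hω3, one_mul]
    rw [this, ← zpow_natCast ω 3, ← zpow_add₀ hω0]
    norm_num
  have h11 : chS e (sr 1) (f c1) = ω ^ 2 := by rw [hc1, hch 1 1 ω hω0, hd1]; exact zpow_ofNat ω 2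
  have hperm : ∀ τ : Equiv.Perm (Fin 2), τ = 1 ∨ (τ 0 = 1 ∧ τ 1 = 0) := by decide
  rcases hperm σ with hσ | ⟨hσ0, hσ1⟩
  · subst hσ
    have hβX : ∀ i, ∀ y ∈ X (sr i), β y ∈ X (sr i) := fun i y hy => (D.pos i y).2 hy
    obtain ⟨t, ht, hβt, i, hi⟩ : ∃ t ∈ T, β t = t ∧ ∃ i, chS e (sr i) (f t) ≠ 1 := by
      rcases h4 c0 hc0T c1 hc1T with h5 | h5 | h5 | h5
      · exact ⟨c0, hc0T, h5, 0, by rw [h00]; exact hω2⟩
      · exact ⟨c1, hc1T, h5, 1, by rw [h11]; exact hω2⟩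
      · refine ⟨_, mul_mem hc0T hc1T, h5, 0, ?_⟩
        rw [J.ch_mul S hx0 hc0T hc1T, h00, h10']
        intro h6
        apply hω1
        calc ω = ω ^ 3 * ω := by rw [hω3, one_mul]
          _ = ω ^ 2 * ω ^ 2 := by ring
          _ = 1 := h6
      · refine ⟨_, mul_mem hc0T (mul_mem hc1T hc1T), h5, 1, ?_⟩
        rw [J.ch_mul S hx1 hc0T (mul_mem hc1T hc1T), J.ch_mul S hx1 hc1T hc1T, h01', h11]
        intro h6
        apply hω2
        calc ω ^ 2 = ω ^ 3 * ω ^ 2 := by rw [hω3, one_mul]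
          _ = ω * (ω ^ 2 * ω ^ 2) := by ring
          _ = 1 := h6
    have h5 := triv_of hF J S hβ (hβX i) ht hβt hi
    have h6 : ∀ x ∈ Lr X i, β x = x := by
      have : Lr X i ≤ β.toMonoidHom.eqLocus (MonoidHom.id Y) :=
        sup_le (fun x hx => h5 x hx) fun x hx => Diag.apply_neg J.rgd D h5 hx
      exact fun x hx => this hx
    obtain ⟨c, hcT, hβc, hcj⟩ : ∃ c ∈ T, β c = c ∧ ∀ j, chS e (sr j) (f c) ≠ 1 := by
      have hj2 : ∀ j : Fin 2, j = 0 ∨ j = 1 := by decide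
      rcases hj2 i with rfl | rfl
      · refine ⟨c0, hc0T, h6 _ hc0L, fun j => ?_⟩
        rcases hj2 j with rfl | rfl
        · rw [h00]; exact hω2
        · rw [h01']; exact hω1
      · refine ⟨c1, hc1T, h6 _ hc1L, fun j => ?_⟩
        rcases hj2 j with rfl | rfl
        · rw [h10']; exact hω2
        · rw [h11]; exact hω2
    exact Diag.eq_one J.rgd J.g1 D fun j => triv_of hF J S hβ (hβX j) hcT hβc (hcj j)
  · exfalso
    -- `β c0`
    have hinv : ∀ t ∈ T, chS e (sr 0) (f t) = 1 ↔ chS e (sr 1) (f (β t)) = 1 := by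
      intro t ht
      rw [J.cent_iff S hx0 ht, J.cent_iff S hx1 ((D.tor t).2 ht)]
      constructor
      · intro h5 y hy
        have h6 : β y ∈ X (sr 0) := by
          have h7 := (D.pos 0 (β y)).1 (by rw [hσ0, hβ]; exact hy)
          exact h7
        have h7 := congrArg β (h5 _ h6)
        rwa [map_mul, map_mul, hβ] at h7
      · intro h5 y hy
        have h6 : β y ∈ X (sr 1) := by
          have := (D.pos 0 y).2 hy
          rwa [hσ0] at this
        have h7 := h5 _ h6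
        rw [← map_mul, ← map_mul] at h7
        exact β.injective h7
    have hβT : β c0 ∈ T := (D.tor _).2 hc0T
    have hβL : β c0 ∈ Lr X 1 := by
      have : Lr X 0 ≤ (Lr X 1).comap β.toMonoidHom := by
        refine sup_le (fun x hx => ?_) (fun x hx => ?_)
        · have h5 := (D.pos 0 x).2 hx
          rw [hσ0] at h5
          exact (le_sup_left : X (sr 1) ≤ Lr X 1) h5
        · have h5 := (D.neg 0 x).2 hx
          rw [hσ0] at h5
          exact (le_sup_right : X (-sr 1) ≤ Lr X 1) h5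
      exact this hc0L
    have hfL : f (β c0) ∈ T' ⊓ Lr X' 1 := by
      refine ⟨J.fT _ hβT, ?_⟩
      have h5 : (Lr X 1).map f = Lr X' 1 := by
        unfold Lr
        rw [Subgroup.map_sup, J.fX _ hx1, J.fX _ hx1.neg]
      rw [← h5]
      exact Subgroup.mem_map_of_mem f hβL
    obtain ⟨d, hd, hde⟩ := (mem_T_rank_one S hG1 hN 1 _).1 hfL
    have k0 : chS e (sr 0) (f (β c0)) = d ^ (-1 : ℤ) := by rw [← hde, hch 1 0 d hd, h10]
    have k1 : chS e (sr 1) (f (β c0)) = d ^ 2 := by rw [← hde, hch 1 1 d hd, hd1]; exact zpow_ofNat d 2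
    have hd1' : d ≠ 1 := by
      intro h5
      rw [h5, one_pow, ← hinv c0 hc0T, h00] at k1
      exact hω2 k1
    -- `t0 = c0 β(c0)`
    have hT0 : c0 * β c0 ∈ T := mul_mem hc0T hβT
    have hβt0 : β (c0 * β c0) = c0 * β c0 := by rw [map_mul, hβ, J.ab _ hβT _ hc0T]
    have m0 : chS e (sr 0) (f (c0 * β c0)) = ω ^ 2 * d ^ (-1 : ℤ) := by
      rw [J.ch_mul S hx0 hc0T hβT, h00, k0]
    have m1 : chS e (sr 1) (f (c0 * β c0)) = ω * d ^ 2 := by
      rw [J.ch_mul S hx1 hc0T hβT, h01', k1]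
    have h5 := hinv _ hT0
    rw [hβt0, m0, m1] at h5
    rcases f4_cases hF hω0 hω1 hd with rfl | rfl | rfl
    · exact hd1' rfl
    · have h6 : d * d ^ 2 = 1 := by rw [← pow_succ', hω3]
      have h7 := h5.2 h6
      rw [zpow_neg_one, pow_two, mul_inv_cancel_right₀ hd] at h7
      exact hω1 h7
    · have h6 : ω ^ 2 * (ω ^ 2) ^ (-1 : ℤ) = 1 := by rw [zpow_neg_one, mul_inv_cancel₀ hd]
      have h7 := h5.1 h6
      apply hω2
      calc ω ^ 2 = ω ^ 3 * ω ^ 2 := by rw [hω3, one_mul]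
        _ = ω * (ω ^ 2) ^ 2 := by ring
        _ = 1 := h7

end four

/-! ### the end -/

section fin

variable {I W H V K' F : Type*} [Fintype I] [DecidableEq I] [Group W] [Finite W] [Group H] [AddCommGroup V]
    [Module (ZMod 2) V] [Group K'] [Field F] {M : CoxeterMatrix I} {cs : CoxeterSystem M W} {A : I → I → ℤ}
    {h : IsCartan M A} {ρ : H →* (V ≃ₗ[ZMod 2] V)} {b : LinearMap.BilinForm (ZMod 2) V} {q : V → ZMod 2}
    {a : V} {D : Submodule (ZMod 2) V} {P : Subgroup H} {w : ℕ} {ζ : V →ₗ[ZMod 2] V} {L : Subgroup H}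
    {T' : Subgroup K'} {n' : I → K'} {X' : (I → ℤ) → Subgroup K'}

/-- the datum meets a Sylow 2-subgroup fixing `a` -/
theorem exists_good [L.Normal] (C : Cfg ρ b q a D P w) {T : Subgroup L} {n : I → L} {X : (I → ℤ) → Subgroup L}
    {f : L →* K'} (J : Cv cs h T n X T' X' f) :
    ∃ (T : Subgroup L) (n : I → L) (X : (I → ℤ) → Subgroup L) (f : L →* K'), Cv cs h T n X T' X' f ∧
      ∃ S : Sylow 2 H, P ≤ S ∧ (∀ s ∈ S, ρ s a = a) ∧ ∀ l : L, l ∈ RGD.Sup X (RGD.Pos cs h) ↔ (l : H) ∈ S := by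
  have hfH := C.finite_H
  obtain ⟨S, hPS, hSa⟩ := C.exists_syl
  obtain ⟨g, hg⟩ := RowOf.exists_syl J.rgd (GG_eq_top J.g1) S
  refine ⟨_, _, _, _, J.conjugate g, S, hPS, fun s hs => hSa hs, fun l => ?_⟩
  rw [RowOf.Sup_cj]
  exact hg l

/-- the module -/
theorem exists_md (C : Cfg ρ b q a D P w)
    (hirr : ∀ W : Submodule (ZMod 2) V, (∀ l ∈ L, ∀ v ∈ W, ρ l v ∈ W) → W = ⊥ ∨ W = ⊤) {T : Subgroup L} {n : I → L}
    {X : (I → ℤ) → Subgroup L} (R : RGD cs h 2 T n X) (hG : RGD.Sup X {x | IsRoot cs h x} = ⊤) :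
    CR.Md cs h T n X (ρ.comp L.subtype) b where
  rgd := R
  gen := GG_eq_top hG
  nondeg := C.nondeg
  b_inv := fun l u v => C.b_inv l u v
  irr := fun E hE => hirr E fun l hl v hv => hE ⟨l, hl⟩ v hv

/-- **all root groups of order 2** -/
theorem false_two [L.Normal] (C : Cfg ρ b q a D P w) (Z : Zt ρ b ζ) (hlin : ∀ l ∈ L, Lin ρ ζ l)
    (hirr : ∀ W : Submodule (ZMod 2) V, (∀ l ∈ L, ∀ v ∈ W, ρ l v ∈ W) → W = ⊥ ∨ W = ⊤)
    {e : (I → ℤ) → F → K'} {R' : RGD cs h 2 T' n' X'} (S' : Sys R' e) (hF : Nat.card F = 2)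
    {T : Subgroup L} {n : I → L} {X : (I → ℤ) → Subgroup L} {f : L →* K'} (J : Cv cs h T n X T' X' f) : False := by
  have hfH := C.finite_H
  obtain ⟨T, n, X, f, J, S, hPS, hSa, hmemU⟩ := exists_good C J
  refine false_of_fix C Z hlin (exists_md C hirr (rgd_T0 J.rgd J.nmem) J.g1) (fun u hu => hSa _ ((hmemU u).1 hu)) ?_
  intro t ht
  rw [T0_eq_bot J S' hF, Subgroup.mem_bot] at ht
  rw [ht]
  exact C.ρ_one a

/-- what is used about the semilinear element `g` -/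
theorem fix_of_comm (C : Cfg ρ b q a D P w) (Z : Zt ρ b ζ) {g t : H} (hg : ¬ Lin ρ ζ g) (hga : ρ g a = a)
    (hc : g * t = t * g) (ht : ρ t a = a ∨ ρ t a = ζ a ∨ ρ t a = ζ a + a) : ρ t a = a := by
  have h1 : ρ g (ρ t a) = ρ t a := by rw [← Base.rho_mul, hc, Base.rho_mul, hga]
  have h2 := Z.nonlin hg a
  rw [hga] at h2
  rcases ht with h3 | h3 | h3
  · exact h3
  · exfalso
    rw [h3, h2] at h1
    exact C.a_ne (add_eq_left.1 h1)
  · exfalso
    rw [h3, map_add, h2, hga, add_assoc, vv, add_zero] at h1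
    exact C.a_ne (left_eq_add.1 h1)

end fin

section fin4

variable {W H V K' F : Type*} [Group W] [Finite W] [Group H] [AddCommGroup V]
    [Module (ZMod 2) V] [Group K'] [Field F] [Finite F] [CharP F 2] {M : CoxeterMatrix (Fin 2)} {cs : CoxeterSystem M W}
    {A : Fin 2 → Fin 2 → ℤ} {h : IsCartan M A} {ρ : H →* (V ≃ₗ[ZMod 2] V)} {b : LinearMap.BilinForm (ZMod 2) V}
    {q : V → ZMod 2} {a : V} {D : Submodule (ZMod 2) V} {P : Subgroup H} {w : ℕ} {ζ : V →ₗ[ZMod 2] V} {L : Subgroup H}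
    {T' : Subgroup K'} {n' : Fin 2 → K'} {X' : (Fin 2 → ℤ) → Subgroup K'}

/-- **type `B₂`, `q = 4`** -/
theorem false_four [L.Normal] (C : Cfg ρ b q a D P w) (Z : Zt ρ b ζ) (hlin : ∀ l ∈ L, Lin ρ ζ l)
    (hirr : ∀ W : Submodule (ZMod 2) V, (∀ l ∈ L, ∀ v ∈ W, ρ l v ∈ W) → W = ⊥ ∨ W = ⊤)
    (hEnd : ∀ f : V →ₗ[ZMod 2] V, (∀ l ∈ L, ∀ v, f (ρ l v) = ρ l (f v)) →
      f = 0 ∨ f = LinearMap.id ∨ f = ζ ∨ f = ζ + LinearMap.id)
    {e : (Fin 2 → ℤ) → F → K'} {R' : RGD cs h 2 T' n' X'} (S' : Sys R' e) (hF : Nat.card F = 4)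
    (hG1 : RGD.Sup X' {x | IsRoot cs h x} = ⊤) (hN : KFacts.RgdCent.NoCent cs h T' X') (h01 : A 0 1 = -2)
    (h10 : A 1 0 = -1)
    {T : Subgroup L} {n : Fin 2 → L} {X : (Fin 2 → ℤ) → Subgroup L} {f : L →* K'} (J : Cv cs h T n X T' X' f) :
    False := by
  have hfH := C.finite_H
  have : Fact (Nat.Prime 2) := ⟨Nat.prime_two⟩
  obtain ⟨T, n, X, f, J, S, hPS, hSa, hmemU⟩ := exists_good C J
  have N := exists_md C hirr J.rgd J.g1
  have hU : ∀ u ∈ RGD.Sup X (RGD.Pos cs h), ρ u a = a := fun u hu => hSa _ ((hmemU u).1 hu)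
  have hact := fun t ht => act_T C hEnd N J.ab hU (t := t) ht
  obtain ⟨x, hx, hxn⟩ := exists_nonlin C Z
  have hxS := hPS hx
  have hα : Fix (MulAut.conjNormal x : MulAut L) (RGD.Sup X (RGD.Pos cs h)) := by
    intro l
    rw [hmemU, hmemU, MulAut.conjNormal_apply]
    constructor
    · intro h1
      have h2 := mul_mem (mul_mem (inv_mem hxS) h1) hxS
      have e : x⁻¹ * (x * (l : H) * x⁻¹) * x = l := by group
      rwa [e] at h2
    · intro h1
      exact mul_mem (mul_mem hxS h1) (inv_mem hxS)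
  obtain ⟨u, hu, -, -, hpow, σ, D'⟩ := exists_frame_pow J.rgd (GG_eq_top J.g1) hα
  set β : MulAut L := MulAut.conj u * MulAut.conjNormal x with hβ
  have hβ2 : ∀ y, β (β y) = y := by
    intro y
    have h1 := hpow 2 (by rw [← map_pow, pow_two, C.X_sq x hx, map_one])
    rw [← MulAut.mul_apply, ← pow_two, h1]
    rfl
  have hβv : ∀ l : L, ((β l : L) : H) = (u * x) * l * ((u : H) * x)⁻¹ := by
    intro l
    rw [hβ, MulAut.mul_apply, MulAut.conj_apply, Subgroup.coe_mul, Subgroup.coe_mul, MulAut.conjNormal_apply,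
      Subgroup.coe_inv]
    group
  have hga : ρ ((u : H) * x) a = a := by rw [Base.rho_mul, C.X_a hx, hU u hu]
  have hgn : ¬ Lin ρ ζ ((u : H) * x) := by
    intro h1
    apply hxn
    have h2 := lin_mul (lin_inv (hlin u u.2)) h1
    rwa [inv_mul_cancel_left] at h2
  -- `β` fixes the stabiliser of `a`
  have hfix : ∀ t ∈ T, ρ t a = a → β t = t := by
    intro t ht hta
    have hz : MulAut.conjNormal x t * t⁻¹ ∈ RGD.Sup X (RGD.Pos cs h) := by
      rw [hmemU]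
      apply hPS
      rw [Subgroup.coe_mul, MulAut.conjNormal_apply, Subgroup.coe_inv]
      have h1 : x * t * x⁻¹ * (t : H)⁻¹ = x * ((t : H) * x * (t : H)⁻¹)⁻¹ := by group
      rw [h1]
      exact mul_mem hx (inv_mem (C.X_norm _ hta x hx))
    have h1 : β t * t⁻¹ ∈ RGD.Sup X (RGD.Pos cs h) := by
      have h2 : β t * t⁻¹ = u * (MulAut.conjNormal x t * t⁻¹) * (t * u⁻¹ * t⁻¹) := by
        rw [hβ, MulAut.mul_apply, MulAut.conj_apply]
        group
      rw [h2]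
      exact mul_mem (mul_mem hu hz) (CR.conj_U J.rgd ht (inv_mem hu))
    have h2 : β t * t⁻¹ ∈ T := mul_mem ((D'.tor t).2 ht) (inv_mem ht)
    have h3 := U_inf_T J.rgd
    rw [Subgroup.eq_bot_iff_forall] at h3
    exact mul_inv_eq_one.1 (h3 _ ⟨h1, h2⟩)
  have hzz : ζ (ζ a) + ζ a = a := by rw [Z.sq, add_right_comm, vv, zero_add]
  have hzzz : ζ (ζ (ζ a)) = a := by rw [Z.sq (ζ a)]; exact hzz
  have h4 : ∀ s ∈ T, ∀ t ∈ T, β s = s ∨ β t = t ∨ β (s * t) = s * t ∨ β (s * (t * t)) = s * (t * t) := by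
    intro s hs t ht
    have hsl : ∀ v, ρ s (ζ v) = ζ (ρ s v) := hlin s s.2
    have htl : ∀ v, ρ t (ζ v) = ζ (ρ t v) := hlin t t.2
    rcases hact s hs with h1 | h1 | h1
    · exact Or.inl (hfix s hs h1)
    · rcases hact t ht with h2 | h2 | h2
      · exact Or.inr (Or.inl (hfix t ht h2))
      · right; right; right
        refine hfix _ (mul_mem hs (mul_mem ht ht)) ?_
        rw [Subgroup.coe_mul, Subgroup.coe_mul, Base.rho_mul, Base.rho_mul, h2, htl, h2, hsl, hsl, h1, hzzz]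
      · right; right; left
        refine hfix _ (mul_mem hs ht) ?_
        rw [Subgroup.coe_mul, Base.rho_mul, h2, map_add, hsl, h1, hzz]
    · rcases hact t ht with h2 | h2 | h2
      · exact Or.inr (Or.inl (hfix t ht h2))
      · right; right; left
        refine hfix _ (mul_mem hs ht) ?_
        rw [Subgroup.coe_mul, Base.rho_mul, h2, hsl, h1, map_add, hzz]
      · right; right; right
        refine hfix _ (mul_mem hs (mul_mem ht ht)) ?_
        have h3 : ρ (t : H) (ζ a + a) = ζ a := by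
          rw [map_add, htl, h2, map_add, hzz, add_comm (ζ a) a, ← add_assoc, vv, zero_add]
        rw [Subgroup.coe_mul, Subgroup.coe_mul, Base.rho_mul, Base.rho_mul, h2, h3, hsl, h1, map_add, hzz]
  have hβ1 := core hF J S' hG1 hN h01 h10 D' hβ2 h4
  refine false_of_fix C Z hlin N hU fun t ht => fix_of_comm C Z hgn hga ?_ (hact t ht)
  have h1 := hβv t
  rw [hβ1] at h1
  exact (mul_inv_eq_iff_eq_mul.1 h1.symm)

end fin4

section main

open Cfsg

variable {H V : Type*} [Group H] [AddCommGroup V] [Module (ZMod 2) V]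
    {ρ : H →* (V ≃ₗ[ZMod 2] V)} {b : LinearMap.BilinForm (ZMod 2) V}
    {q : V → ZMod 2} {a : V} {D : Submodule (ZMod 2) V} {X : Subgroup H} {w : ℕ} {ζ : V →ₗ[ZMod 2] V} {L : Subgroup H}

/-- **`Sp₆(2)` and `Sp₄(4)`** -/
theorem sp {F : Type*} [Field F] [Fintype F] [CharP F 2] {m : ℕ} (C : Cfg ρ b q a D X w) (Z : Zt ρ b ζ)
    (hlin : ∀ l ∈ L, Lin ρ ζ l) (hL : L.Normal) (hq : IsQuasisimple L) (ho : Odd (Nat.card (Subgroup.center L)))
    (hirr : ∀ W : Submodule (ZMod 2) V, (∀ l ∈ L, ∀ v ∈ W, ρ l v ∈ W) → W = ⊥ ∨ W = ⊤)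
    (hEnd : ∀ f : V →ₗ[ZMod 2] V, (∀ l ∈ L, ∀ v, f (ρ l v) = ρ l (f v)) →
      f = 0 ∨ f = LinearMap.id ∨ f = ζ ∨ f = ζ + LinearMap.id)
    (e : Nonempty ((L ⧸ Subgroup.center L) ≃* PSp m F))
    (h : m = 3 ∧ Fintype.card F = 2 ∨ m = 2 ∧ Fintype.card F = 4) : False := by
  have hfH := C.finite_H
  have : Fact (Nat.Prime 2) := ⟨Nat.prime_two⟩
  obtain ⟨e⟩ := e
  have : Finite (CoxeterMatrix.B m).Group := Nodes.TypeC.finite_W (CoxeterMatrix.B m).toCoxeterSystem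
  have hm : 0 < m := by
    rcases h with h | h
    · rw [h.1]; norm_num
    · rw [h.1]; norm_num
  set f : L →* PSp m F := e.toMonoidHom.comp (QuotientGroup.mk' (Subgroup.center L)) with hf
  have hker : f.ker = Subgroup.center L := by
    ext z
    rw [MonoidHom.mem_ker, hf, MonoidHom.comp_apply]
    have h1 : e.toMonoidHom (QuotientGroup.mk' (Subgroup.center L) z) = 1 ↔
        QuotientGroup.mk' (Subgroup.center L) z = 1 := by
      constructor
      · intro h2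
        exact e.injective (h2.trans (map_one e).symm)
      · intro h2
        rw [h2, map_one]
    rw [h1, QuotientGroup.mk'_apply, QuotientGroup.eq_one_iff]
  have hs : Function.Surjective f := e.surjective.comp (QuotientGroup.mk'_surjective _)
  have hp : (Nat.card f.ker).Coprime 2 := by
    rw [hker]
    exact Nat.coprime_two_right.2 ho
  have hperf : ⁅(⊤ : Subgroup L), (⊤ : Subgroup L)⁆ = ⊤ := hq.1.commutator_eq_top
  have S' := KFacts.SysSp.sys_PSp m F (CoxeterMatrix.B m).toCoxeterSystem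
  have hG1 := KFacts.SysSp.sup_eq_top_PSp hm F (CoxeterMatrix.B m).toCoxeterSystem
  have hN := KFacts.SysSp.noCent_PSp m F (CoxeterMatrix.B m).toCoxeterSystem
  obtain ⟨T, n, X', J⟩ := exists_cv S' hG1 hN f hker.le hp hs hperf
  rcases h with ⟨-, hF⟩ | ⟨rfl, hF⟩
  · exact false_two C Z hlin hirr S' (by rw [Nat.card_eq_fintype_card, hF]) J
  · refine false_four C Z hlin hirr hEnd S' (by rw [Nat.card_eq_fintype_card, hF]) hG1 hN ?_ ?_ J
    · rw [Nodes.TypeC.A_apply]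
      simp
    · rw [Nodes.TypeC.A_apply]
      simp

end main

end Cfsg.Agent.Omega.EH3.ESix.Sp
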