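import Cfsg.Agent.Omega.EH3.ESix.Core
import Cfsg.Agent.Omega.EH3.ESix.Rows
import Cfsg.Agent.Omega.EH3.ESix.Sp
import Cfsg.Agent.Omega.EH3.Kf.Main

/-!
# EH3: `End_L(V) = F₄` does not occur for `w = 6`, `L/Z(L)` of Lie type in characteristic 2

`e6 : Kf.Main.End6 IsLieTypeChar2`.  (helper415, with helper576 (Ord), helper234 (Rows), helper810 (Sp); bb OMEGA #16215)

* `Bound` : `|L|_2 ≤ 2^11` if `ζ ∈ End_L(V)` is self-adjoint, `|L|_2 ≤ 2^9` if it is an isometry;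
* `Prime` : `73 ∤ |L|`, and `11, 31 ∤ |L|` in the self-adjoint case;
* `Ord` : the groups which are left; `Rows`, `Sp` : these groups do not occur.
-/

set_option autoImplicit false

namespace Cfsg.Agent.Omega.EH3.ESix.Main

open Subgroup Cfsg.Agent.Omega.EH3 Cfsg.Agent.Omega.EH3.ESix.Base

universe u

/-- **`w = 6`, `L/Z(L)` of Lie type in characteristic 2: `End_L(V) = F₂`.** -/
theorem end_six {H V : Type u} [Group H] [AddCommGroup V] [Module (ZMod 2) V]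
    {ρ : H →* (V ≃ₗ[ZMod 2] V)} {b : LinearMap.BilinForm (ZMod 2) V} {q : V → ZMod 2}
    {a : V} {D : Submodule (ZMod 2) V} {X L : Subgroup H} (C : Cfg ρ b q a D X 6) (hL : L.Normal)
    (hq : IsQuasisimple L) (ho : Odd (Nat.card (center L))) (hX : X ⊓ centralizer (L : Set H) = ⊥)
    (hK : IsLieTypeChar 2 (L ⧸ center L))
    (hirr : ∀ W : Submodule (ZMod 2) V, (∀ l ∈ L, ∀ v ∈ W, ρ l v ∈ W) → W = ⊥ ∨ W = ⊤) :
    ∀ f : V →ₗ[ZMod 2] V, (∀ l ∈ L, ∀ v, f (ρ l v) = ρ l (f v)) → f = 0 ∨ f = LinearMap.id := by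
  rcases Irr.Shape.shape C hL hirr with h | ⟨ζ, h1, hE, hcomm, h2, h3⟩
  · exact h
  · exfalso
    have Z : Zt ρ b ζ := ⟨h1, h2, h3⟩
    have hlin : ∀ l ∈ L, Lin ρ ζ l := fun l hl v => (hcomm l hl v).symm
    rcases Rows.rows.{u} (Core.left C Z hL hlin hK) with h | ⟨F, _, _, _, hF, e⟩ | ⟨F, _, _, _, hF, e⟩
    · have hperf : commutator L = ⊤ := hq.1.commutator_eq_top
      refine h H V ρ b q a D X 6 L (QuotientGroup.mk' (center L)) hL ⟨hperf, QuotientGroup.mk'_surjective _, ?_, ?_⟩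
        hX C
      · rw [QuotientGroup.ker_mk']
      · rw [QuotientGroup.ker_mk']
        exact ho
    · exact Sp.sp C Z hlin hL hq ho hirr hE e (Or.inr ⟨rfl, hF⟩)
    · exact Sp.sp C Z hlin hL hq ho hirr hE e (Or.inl ⟨rfl, hF⟩)

/-- **End6.** -/
theorem e6 : Kf.Main.End6.{u} (fun X _ => IsLieTypeChar 2 X) :=
  fun _ _ _ _ _ _ _ _ _ _ _ _ C hL hq ho hX hK hirr => end_six C hL hq ho hX hK hirr

end Cfsg.Agent.Omega.EH3.ESix.Main
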