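import Cfsg.Agent.Omega.EH3.ESix.Base

/-!
# EH3, shape (iii): the elements of `L C_H(L)` commute with `ζ` (helper415; bb OMEGA #16215 (3))

* `lin_of_cent` : `C_H(L)` commutes with `ζ`;
* `lin_of_mul`, `not_mul` : `x ∈ X` not commuting with `ζ` is not in `L C_H(L)`.
-/

set_option autoImplicit false

namespace Cfsg.Agent.Omega.EH3.ESix.Out

open Cfsg.Agent.Omega.EH3 Cfsg.Agent.Omega.EH3.ESix.Base Subgroup

variable {H V : Type*} [Group H] [AddCommGroup V] [Module (ZMod 2) V]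
  {ρ : H →* (V ≃ₗ[ZMod 2] V)} {b : LinearMap.BilinForm (ZMod 2) V} {q : V → ZMod 2}
  {a : V} {D : Submodule (ZMod 2) V} {X : Subgroup H} {w : ℕ} {ζ : V →ₗ[ZMod 2] V} {L : Subgroup H}

theorem lin_of_cent (C : Cfg ρ b q a D X w)
    (hEnd : ∀ f : V →ₗ[ZMod 2] V, (∀ l ∈ L, ∀ v, f (ρ l v) = ρ l (f v)) →
      f = 0 ∨ f = LinearMap.id ∨ f = ζ ∨ f = ζ + LinearMap.id)
    {z : H} (hz : z ∈ centralizer (L : Set H)) : Lin ρ ζ z := by
  have h1 := hEnd (ρ z).toLinearMap (fun l hl v => by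
    have h2 : l * z = z * l := mem_centralizer_iff.1 hz l hl
    show ρ z (ρ l v) = ρ l (ρ z v)
    rw [← C.ρ_mul, ← C.ρ_mul, h2])
  have key : ∀ (f : V →ₗ[ZMod 2] V), (ρ z).toLinearMap = f → ∀ v, ρ z v = f v := fun f hf v =>
    LinearMap.congr_fun hf v
  rcases h1 with h | h | h | h
  · exfalso
    apply C.a_ne
    exact C.ρ_inj z ((key _ h a).trans (map_zero _).symm)
  · intro v
    rw [key _ h, key _ h]
    rfl
  · intro v
    rw [key _ h, key _ h]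
  · intro v
    rw [key _ h, key _ h, LinearMap.add_apply, LinearMap.add_apply, map_add]
    rfl

theorem lin_of_mul (C : Cfg ρ b q a D X w)
    (hEnd : ∀ f : V →ₗ[ZMod 2] V, (∀ l ∈ L, ∀ v, f (ρ l v) = ρ l (f v)) →
      f = 0 ∨ f = LinearMap.id ∨ f = ζ ∨ f = ζ + LinearMap.id)
    (hlin : ∀ l ∈ L, Lin ρ ζ l) {l z : H} (hl : l ∈ L) (hz : z ∈ centralizer (L : Set H)) : Lin ρ ζ (l * z) :=
  lin_mul (hlin l hl) (lin_of_cent C hEnd hz)

/-- **an element of `X` which induces an outer automorphism of `L`** -/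
theorem exists_out (C : Cfg ρ b q a D X w) (Z : Zt ρ b ζ)
    (hEnd : ∀ f : V →ₗ[ZMod 2] V, (∀ l ∈ L, ∀ v, f (ρ l v) = ρ l (f v)) →
      f = 0 ∨ f = LinearMap.id ∨ f = ζ ∨ f = ζ + LinearMap.id)
    (hlin : ∀ l ∈ L, Lin ρ ζ l) : ∃ x ∈ X, ∀ l ∈ L, ∀ z ∈ centralizer (L : Set H), x ≠ l * z := by
  obtain ⟨x, hx, hn⟩ := exists_nonlin C Z
  refine ⟨x, hx, ?_⟩
  rintro l hl z hz rfl
  exact hn (lin_of_mul C hEnd hlin hl hz)

end Cfsg.Agent.Omega.EH3.ESix.Out
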